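import Mathlib
import Cfsg.Prelude.Def_Local
import Cfsg.Agent.Lib.H26.LocalFitting
import Cfsg.Agent.Lib.H26.OPPrime

/-!
Bender's maximal subgroup lemma.
-/

set_option autoImplicit false

open Cfsg Subgroup H26.Basic H26.Components H26.PxQ H26.GenFitting H26.LocalFitting

namespace H26.Bender

variable {M : Type*} [Group M] [Finite M]

/-- the join of the `q`-cores, `q ≠ p` -/
def otherCores (p : ℕ) (M : Type*) [Group M] : Subgroup M :=
  ⨆ q : {q : Nat.Primes // (q : ℕ) ≠ p}, pCore (q : ℕ) M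

instance otherCores_normal (p : ℕ) : (otherCores p M).Normal := by
  unfold otherCores; infer_instance

theorem pCore_le_otherCores {p q : ℕ} (hq : q.Prime) (h : q ≠ p) : pCore q M ≤ otherCores p M :=
  le_iSup (fun q : {q : Nat.Primes // (q : ℕ) ≠ p} => pCore (q : ℕ) M) ⟨⟨q, hq⟩, h⟩

theorem card_otherCores (p : ℕ) [hp : Fact p.Prime] : (Nat.card (otherCores p M)).Coprime p := by
  apply H1.Cores.coprime_card_iSup p _ (fun _ => inferInstance)
  rintro ⟨q, hq⟩
  have := Fact.mk q.2
  obtain ⟨n, hn⟩ := IsPGroup.iff_card.mp (H1.Cores.isPGroup_pCore (G := M) (q : ℕ))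
  rw [hn]
  exact Nat.Coprime.pow_left n ((Nat.coprime_primes q.2 hp.out).mpr hq)

theorem commutator_pCore_otherCores (p : ℕ) [hp : Fact p.Prime] :
    ⁅pCore p M, otherCores p M⁆ = ⊥ := by
  refine commutator_eq_bot_of_coprime (H1.Cores.isPGroup_pCore p) (card_otherCores p) ?_ ?_
  · rw [Subgroup.normalizer_eq_top_iff.mpr (inferInstance : (otherCores p M).Normal)]; exact le_top
  · rw [Subgroup.normalizer_eq_top_iff.mpr (inferInstance : (pCore p M).Normal)]; exact le_top

theorem fitting_eq (p : ℕ) [hp : Fact p.Prime] : fittingSubgroup M = pCore p M ⊔ otherCores p M := by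
  rw [H1.Cores.fittingSubgroup_eq_iSup_pCore]
  apply le_antisymm
  · refine iSup_le fun q => ?_
    by_cases hq : (q : ℕ) = p
    · rw [hq]; exact le_sup_left
    · exact (pCore_le_otherCores q.2 hq).trans le_sup_right
  · refine sup_le (le_iSup (fun q : Nat.Primes => pCore (q : ℕ) M) ⟨p, hp.out⟩) ?_
    exact iSup_le fun q => le_iSup (fun q : Nat.Primes => pCore (q : ℕ) M) q.1

theorem exists_decomp (p : ℕ) [hp : Fact p.Prime] {f : M} (hf : f ∈ fittingSubgroup M) :
    ∃ v ∈ pCore p M, ∃ w ∈ otherCores p M, v * w = f := by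
  rw [fitting_eq p] at hf
  exact (mem_sup_of_commutator_eq_bot (commutator_pCore_otherCores p)).mp hf

/-- commuting `p`-element `v` and `p'`-element `w`: `v` is a power of `v w` -/
theorem mem_of_mul_mem {p : ℕ} {S : Subgroup M} {v w : M} (hv : ∃ k : ℕ, v ^ p ^ k = 1)
    (hw : (orderOf w).Coprime p) (hvw : Commute v w) (h : v * w ∈ S) : v ∈ S := by
  refine H26.OPPrime.mem_of_pow_mem hv hw ?_
  have h1 := S.pow_mem h (orderOf w)
  rwa [hvw.mul_pow, pow_orderOf_eq_one, mul_one] at h1

theorem mem_centralizer_of {S : Subgroup M} (hS : S ≤ generalizedFittingSubgroup M)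
    (hE : layer M ≤ S) {r : ℕ} [hr : Fact r.Prime] {c : M} (hc : c ∈ pCore r M)
    (hc' : c ∈ Subgroup.centralizer ((S ⊓ pCore r M : Subgroup M) : Set M)) :
    c ∈ Subgroup.centralizer (S : Set M) := by
  rw [Subgroup.mem_centralizer_iff]
  intro s hs
  obtain ⟨e, he, f, hf, rfl⟩ := mem_gFitting_iff.mp (hS hs)
  have hfS : f ∈ S := by
    have := S.mul_mem (S.inv_mem (hE he)) hs
    rwa [inv_mul_cancel_left] at this
  obtain ⟨v, hv, w, hw, rfl⟩ := exists_decomp r hf
  have hvw : Commute v w := commute_of_commutator_eq_bot (commutator_pCore_otherCores r) hv hw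
  have hvS : v ∈ S := by
    refine mem_of_mul_mem (p := r) ?_ ?_ hvw hfS
    · obtain ⟨k, hk⟩ := isPGroup_iff_pow_pow_eq_one.mp (H1.Cores.isPGroup_pCore (G := M) r) ⟨v, hv⟩
      exact ⟨k, by simpa using congrArg Subtype.val hk⟩
    · exact Nat.Coprime.coprime_dvd_left (Subgroup.orderOf_dvd_natCard _ hw) (card_otherCores r)
  have h1 : e * c = c * e := commute_of_commutator_eq_bot (commutator_layer_pCore r) he hc
  have h2 : v * c = c * v := Subgroup.mem_centralizer_iff.mp hc' v (Subgroup.mem_inf.mpr ⟨hvS, hv⟩)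
  have h3 : c * w = w * c := commute_of_commutator_eq_bot (commutator_pCore_otherCores r) hc hw
  calc e * (v * w) * c = e * v * (w * c) := by group
    _ = e * (v * c) * w := by rw [← h3]; group
    _ = e * c * v * w := by rw [h2]; group
    _ = c * (e * (v * w)) := by rw [h1]; group

/-- `E(M) ≤ S` for `S` subnormal in `M`, containing its centralizer in `F*(M)` -/
theorem layer_le {S : Subgroup M} (hS : S.IsSubnormal)
    (hSC : generalizedFittingSubgroup M ⊓ Subgroup.centralizer (S : Set M) ≤ S) : layer M ≤ S := by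
  refine sSup_le fun L hL => ?_
  have hL' : IsComponent L := hL
  rcases le_or_commutator_eq_bot hL' hS with h | h
  · exact h
  · exact (le_inf (component_le_gFitting hL')
      (Subgroup.commutator_eq_bot_iff_le_centralizer.mp h)).trans hSC

/-- Step 1 of Bender's lemma -/
theorem step_one {S Y : Subgroup M} (hS : S ≤ generalizedFittingSubgroup M)
    (hE : layer M ≤ S)
    (hSC : generalizedFittingSubgroup M ⊓ Subgroup.centralizer (S : Set M) ≤ S)
    {p : ℕ} [hp : Fact p.Prime] (hY : IsPGroup p Y) (hSY : S ≤ Subgroup.normalizer (Y : Set M)) :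
    ⁅layer M, Y⁆ = ⊥ ∧ ∀ r : ℕ, r.Prime → r ≠ p → ⁅pCore r M, Y⁆ = ⊥ := by
  have hYn : Group.IsNilpotent Y := hY.isNilpotent
  constructor
  · refine commutator_sSup_left_eq_bot fun L hL => ?_
    have hL' : IsComponent L := hL
    exact commutator_eq_bot_of_isSolvable hL' inferInstance ((le_layer hL').trans (hE.trans hSY))
  · intro r hr hrp
    have : Fact r.Prime := ⟨hr⟩
    set V := pCore r M with hV
    set T := S ⊓ V with hT
    have hVp : IsPGroup r V := H1.Cores.isPGroup_pCore r
    have hTp : IsPGroup r T := hVp.to_le inf_le_right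
    have hcY : (Nat.card Y).Coprime r := by
      obtain ⟨n, hn⟩ := IsPGroup.iff_card.mp hY
      rw [hn]
      exact Nat.Coprime.pow_left n ((Nat.coprime_primes hp.out hr).mpr (Ne.symm hrp))
    have hVn : ∀ X : Subgroup M, X ≤ Subgroup.normalizer (V : Set M) := by
      intro X
      rw [Subgroup.normalizer_eq_top_iff.mpr (inferInstance : V.Normal)]; exact le_top
    have hTY : ⁅T, Y⁆ = ⊥ := by
      rw [eq_bot_iff, ← inf_eq_bot_of_coprime hVp hcY]
      refine le_inf ?_ ?_
      · exact (Subgroup.commutator_mono inf_le_right le_rfl).trans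
          (Subgroup.le_normalizer_iff_commutator_le_left.mp (hVn Y))
      · exact Subgroup.le_normalizer_iff_commutator_le_right.mp (inf_le_left.trans hSY)
    refine commutator_eq_bot_pxq hTp ?_ hVp hTY (hVn T) (hVn Y) ?_
    · intro q hq
      exact Nat.Coprime.coprime_dvd_left (Subgroup.orderOf_dvd_natCard _ hq) hcY
    · refine commutator_eq_bot_mono hTY ?_ le_rfl
      intro c hc
      obtain ⟨hc1, hc2⟩ := Subgroup.mem_inf.mp hc
      refine Subgroup.mem_inf.mpr ⟨hSC (Subgroup.mem_inf.mpr ⟨?_, mem_centralizer_of hS hE hc1 hc2⟩), hc1⟩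
      exact fitting_le_gFitting (H1.Cores.pCore_le_fittingSubgroup r hc1)

/-- the `p'`-elements of `F*(M)` lie in `E(M) ⊔ ∏_{r ≠ p} O_r(M)` -/
theorem opUp_gFitting_le (p : ℕ) [hp : Fact p.Prime] :
    opUp p (generalizedFittingSubgroup M) ≤ layer M ⊔ otherCores p M := by
  rw [opUp, Subgroup.closure_le]
  rintro y ⟨hy, hc⟩
  obtain ⟨e, he, f, hf, rfl⟩ := mem_gFitting_iff.mp hy
  obtain ⟨v, hv, w, hw, rfl⟩ := exists_decomp p hf
  obtain ⟨k, hk⟩ := isPGroup_iff_pow_pow_eq_one.mp (H1.Cores.isPGroup_pCore (G := M) p) ⟨v, hv⟩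
  have hk' : v ^ p ^ k = 1 := by simpa using congrArg Subtype.val hk
  have hvw : Commute v w := commute_of_commutator_eq_bot (commutator_pCore_otherCores p) hv hw
  have hev : Commute e v := commute_of_commutator_eq_bot (commutator_layer_pCore p) he hv
  have h1 : (e * (v * w)) = (e * w) * v := by
    rw [hvw.eq]; group
  have h2 : Commute (e * w) v := hev.mul_left hvw.symm
  have h3 : (e * (v * w)) ^ p ^ k ∈ layer M ⊔ otherCores p M := by
    rw [h1, h2.mul_pow, hk', mul_one]
    exact Subgroup.pow_mem _ (Subgroup.mul_mem _ (Subgroup.mem_sup_left he) (Subgroup.mem_sup_right hw)) _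
  have h4 : e * (v * w) ∈ Subgroup.zpowers ((e * (v * w)) ^ p ^ k) := by
    have h5 : Nat.Coprime (p ^ k) (orderOf (e * (v * w))) := (Nat.Coprime.pow_right k hc).symm
    exact mem_zpowers_pow_iff.mpr h5
  exact (Subgroup.zpowers_le.mpr h3) h4

theorem commutator_otherCores_eq_bot {p : ℕ} {Y : Subgroup M}
    (h : ∀ r : ℕ, r.Prime → r ≠ p → ⁅pCore r M, Y⁆ = ⊥) : ⁅otherCores p M, Y⁆ = ⊥ :=
  commutator_iSup_left_eq_bot fun q => h q.1 q.1.2 q.2

/-- Step 1: `Y` centralizes `O^p(F*(M))`. -/
theorem commutator_opUp_gFitting {S Y : Subgroup M} (hS : S ≤ generalizedFittingSubgroup M)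
    (hE : layer M ≤ S)
    (hSC : generalizedFittingSubgroup M ⊓ Subgroup.centralizer (S : Set M) ≤ S)
    {p : ℕ} [hp : Fact p.Prime] (hY : IsPGroup p Y) (hSY : S ≤ Subgroup.normalizer (Y : Set M)) :
    ⁅layer M ⊔ otherCores p M, Y⁆ = ⊥ := by
  obtain ⟨h1, h2⟩ := step_one hS hE hSC hY hSY
  exact commutator_sup_left_eq_bot h1 (commutator_otherCores_eq_bot h2)

/-! ### inside a maximal subgroup of a simple group -/

section maximal

variable {G : Type*} [Group G] [Finite G] [IsSimpleGroup G]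

theorem le_normalizer_map {A : Subgroup G} (D : Subgroup A) [hD : D.Normal] :
    A ≤ Subgroup.normalizer ((D.map A.subtype : Subgroup G) : Set G) := by
  rw [← Subgroup.normal_subgroupOf_iff_le_normalizer (Subgroup.map_subtype_le D), Subgroup.subgroupOf,
    Subgroup.comap_map_eq_self_of_injective A.subtype_injective]
  exact hD

theorem normalizer_eq {A : Subgroup G} (hA : IsCoatom A) (D : Subgroup A) [D.Normal] (hD : D ≠ ⊥) :
    Subgroup.normalizer ((D.map A.subtype : Subgroup G) : Set G) = A := by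
  rcases eq_or_lt_of_le (le_normalizer_map D) with h | h
  · exact h.symm
  · exfalso
    have h1 := hA.2 _ h
    have h2 : (D.map A.subtype).Normal := Subgroup.normalizer_eq_top_iff.mp h1
    rcases h2.eq_bot_or_eq_top with h3 | h3
    · exact hD ((Subgroup.map_eq_bot_iff_of_injective _ A.subtype_injective).mp h3)
    · exact hA.1 (top_le_iff.mp (h3 ▸ Subgroup.map_subtype_le D))

/-- Step 2 of Bender's lemma -/
theorem step_two {A R : Subgroup G} (hA : IsCoatom A) {p : ℕ} [Fact p.Prime] (hR : IsPGroup p R)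
    (Z W : Subgroup A) [Z.Normal] [W.Normal] (hZ : Z ≠ ⊥) (hZp : IsPGroup p Z) (hW : W ≠ ⊥)
    (hWo : opUp p W = W) (hZW : ⁅Z, W⁆ = ⊥)
    (hZR : Z.map A.subtype ≤ Subgroup.normalizer (R : Set G))
    (hWR : W.map A.subtype ≤ Subgroup.normalizer (R : Set G))
    (h1 : ⁅W, R.subgroupOf A⁆ = ⊥) : R ≤ A := by
  have h2 : ⁅R, opUp p (W.map A.subtype)⁆ = ⊥ := by
    refine pxq_opUp (P := Z.map A.subtype) (hZp.map _) hR ?_ hZR hWR ?_
    · rwa [map_commutator_eq_bot_iff _ A.subtype_injective]
    · rw [Subgroup.commutator_comm]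
      have h3 : ⁅W.map A.subtype, (R.subgroupOf A).map A.subtype⁆ = ⊥ := by
        rwa [map_commutator_eq_bot_iff _ A.subtype_injective]
      refine commutator_eq_bot_mono h3 le_rfl ?_
      rw [Subgroup.subgroupOf_map_subtype]
      refine le_inf inf_le_left (inf_le_right.trans ?_)
      exact (Subgroup.centralizer_le_normalizer _).trans (normalizer_eq hA Z hZ).le
  rw [← map_opUp_of_injective p A.subtype_injective, hWo,
    Subgroup.commutator_eq_bot_iff_le_centralizer] at h2
  exact (h2.trans (Subgroup.centralizer_le_normalizer _)).trans (normalizer_eq hA W hW).le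

end maximal

end H26.Bender
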