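import Cfsg.Agent.Lib.H26.FocCent
set_option autoImplicit false
set_option linter.unusedSectionVars false

open Cfsg Cfsg.FusionSystem
open scoped commutatorElement

namespace H26.FocCent
open H87.Base H87.Basic H87.Syl H87.Sat H87.Grow H87.Inv H87.Frat H87.Bridge H87.PPow

variable {Ω : Type*} [Group Ω] {S T : Subgroup Ω} {F : FusionSystem S} {E : FusionSystem T}
  {P Q R K : Subgroup Ω} {f g h a b γ φ ψ : Ω → Ω} {p : ℕ}

/-- the function underlying an automorphism -/
noncomputable def fn {P : Subgroup Ω} (k : MulAut P) : Ω → Ω := extFun (P.subtype.comp k.toMonoidHom)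

theorem fn_apply {k : MulAut P} {x : Ω} (hx : x ∈ P) : fn k x = ((k ⟨x, hx⟩ : P) : Ω) := by
  unfold fn
  rw [extFun_apply _ hx]; rfl

theorem fn_coe {k : MulAut P} (x : P) : fn k x = ((k x : P) : Ω) := fn_apply x.2

theorem fn_mem {k : MulAut P} {x : Ω} (hx : x ∈ P) : fn k x ∈ P := by
  rw [fn_apply hx]; exact (k _).2

theorem fn_mul {k l : MulAut P} {x : Ω} (hx : x ∈ P) : fn (k * l) x = fn k (fn l x) := by
  rw [fn_apply hx, fn_apply hx, fn_coe]; rfl

theorem fn_inv_left {k : MulAut P} {x : Ω} (hx : x ∈ P) : fn k⁻¹ (fn k x) = x := by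
  rw [← fn_mul hx, inv_mul_cancel, fn_apply hx]; rfl

theorem fn_inv_right {k : MulAut P} {x : Ω} (hx : x ∈ P) : fn k (fn k⁻¹ x) = x := by
  rw [← fn_mul hx, mul_inv_cancel, fn_apply hx]; rfl

/-- the automorphisms of `P` in `E` whose transport to `R` extends to `R C_S(R)` -/
noncomputable def kGrp [Finite S] (hE : E.IsSubsystemOf F) (hPT : P ≤ T) (haP : IsIso F P R a) (hbR : IsIso F R P b)
    (hba : ∀ x ∈ P, b (a x) = x) (hab : ∀ y ∈ R, a (b y) = y) : Subgroup (MulAut P) where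
  carrier := {k | k ∈ E.autGroup P ∧ ExtC F R (a ∘ fn k ∘ b)}
  one_mem' := by
    refine ⟨Subgroup.one_mem _, ?_⟩
    have hR : R ≤ S := haP.le'
    refine ExtC.congr (a := fun x => 1 * x * 1⁻¹) (extC_inner hR R.one_mem) fun x hx => ?_
    show 1 * x * 1⁻¹ = a (fn 1 (b x))
    rw [fn_apply (hbR.mem hx)]
    show _ = a (b x)
    rw [hab x hx]; group
  mul_mem' := by
    rintro k l ⟨hk, hk'⟩ ⟨hl, hl'⟩
    refine ⟨Subgroup.mul_mem _ hk hl, ?_⟩
    have i1 : IsIso F R R (a ∘ fn k ∘ b) :=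
      (hbR.comp (isIso_of_sub hE (isIso_of_mem_autGroup hPT hk))).comp haP
    have i2 : IsIso F R R (a ∘ fn l ∘ b) :=
      (hbR.comp (isIso_of_sub hE (isIso_of_mem_autGroup hPT hl))).comp haP
    refine (hl'.comp hk' i2 i1).congr fun x hx => ?_
    show a (fn k (b (a (fn l (b x))))) = a (fn (k * l) (b x))
    rw [hba _ (fn_mem (hbR.mem hx)), fn_mul (hbR.mem hx)]
  inv_mem' := by
    rintro k ⟨hk, hk'⟩
    refine ⟨Subgroup.inv_mem _ hk, ?_⟩
    have i1 : IsIso F R R (a ∘ fn k⁻¹ ∘ b) :=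
      (hbR.comp (isIso_of_sub hE (isIso_of_mem_autGroup hPT (Subgroup.inv_mem _ hk)))).comp haP
    refine hk'.symm i1 fun x hx => ?_
    show a (fn k (b (a (fn k⁻¹ (b x))))) = x
    rw [hba _ (fn_mem (hbR.mem hx)), fn_inv_right (hbR.mem hx), hab x hx]

theorem mem_kGrp [Finite S] {hE : E.IsSubsystemOf F} {hPT : P ≤ T} {haP : IsIso F P R a} {hbR : IsIso F R P b}
    {hba : ∀ x ∈ P, b (a x) = x} {hab : ∀ y ∈ R, a (b y) = y} {k : MulAut P} :
    k ∈ kGrp hE hPT haP hbR hba hab ↔ k ∈ E.autGroup P ∧ ExtC F R (a ∘ fn k ∘ b) := Iff.rfl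

/-- the main induction: a system `C` containing all the automorphisms with the lift property contains `E` -/
theorem main_ind [Fact p.Prime] [Finite S] (hS : IsPGroup p S) (hN : E.IsNormalIn F p) {S' : Subgroup Ω}
    (C : FusionSystem S')
    (hcore : ∀ (P : Subgroup Ω) (γ : Ω → Ω), P ≤ T → IsIso F P P γ → Lift F (centralizerIn S T) P γ → IsMap C P γ)
    (hf : IsMap E P f) : IsMap C P f := by
  obtain ⟨hEs, hF, hInv, hext⟩ := isNormalIn_iff.1 hN
  obtain ⟨hE, hT, hA, hFr⟩ := isInvariantIn_iff.1 hInv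
  have hTS := hT.1
  have hTfin : Finite T := finite_of_le hTS
  have hTp : IsPGroup p T := hS.to_le hTS
  obtain ⟨n, hn⟩ : ∃ n, Nat.card T - Nat.card P = n := ⟨_, rfl⟩
  induction n using Nat.strong_induction_on generalizing P f with
  | _ n ih =>
  have hcardle : ∀ {R : Subgroup Ω}, R ≤ T → Nat.card R ≤ Nat.card T := fun hR =>
    Nat.card_le_card_of_injective _ (Subgroup.inclusion_injective hR)
  have hbig : ∀ {R : Subgroup Ω} {k : Ω → Ω}, IsMap E R k → Nat.card P < Nat.card R → IsMap C R k := by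
    intro R k hk hlt
    have h1 := hcardle hk.le
    exact ih (Nat.card T - Nat.card R) (by omega) hk rfl
  have hlt_card : ∀ {A B : Subgroup Ω}, B ≤ T → A < B → Nat.card A < Nat.card B := by
    intro A B hB hAB
    have : Finite B := finite_of_le hB
    have h1 : Nat.card A ≤ Nat.card B :=
      Nat.card_le_card_of_injective _ (Subgroup.inclusion_injective hAB.le)
    refine lt_of_le_of_ne h1 fun e => ?_
    exact hAB.ne (Subgroup.eq_of_le_of_card_ge hAB.le e.ge)
  have hPT : P ≤ T := hf.le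
  by_cases hPT' : P = T
  · subst hPT'
    have h1 : IsIso E P P f := isIso_self hf fun x hx => hf.mem hx
    exact hcore P f le_rfl (isIso_of_sub hE h1) (hext f h1)
  have hPlt : P < T := lt_of_le_of_ne hPT hPT'
  have hcardlt : Nat.card P < Nat.card T := hlt_card le_rfl hPlt
  -- the fully normalized conjugate in `F`
  obtain ⟨R, hPR, hR⟩ := exists_nice hF (hPT.trans hTS)
  have hRfn := fn_of_nice hS hR
  obtain ⟨χ₀, hχ₀⟩ := isConj_iff.1 hPR
  obtain ⟨a, f₀, ha, hf₀, e₀⟩ := hFr P χ₀ hPT hχ₀.isMap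
  obtain ⟨b, hb, hba, hab⟩ := ha.symm
  obtain ⟨Q, hQ⟩ : ∃ Q, img P f₀ = Q := ⟨_, rfl⟩
  have hf₀i : IsIso E P Q f₀ := hQ ▸ hf₀.isIso
  have hQT : Q ≤ T := hf₀i.le'
  have haQ : IsIso F Q R a := by
    refine (ha.isMap.mono hQT).isIso_of ?_ ?_
    · intro y hy
      obtain ⟨x, hx, rfl⟩ := hf₀i.surj hy
      rw [← e₀ x hx]
      exact hχ₀.mem hx
    · intro y hy
      obtain ⟨x, hx, rfl⟩ := hχ₀.surj hy
      exact ⟨f₀ x, hf₀i.mem hx, (e₀ x hx).symm⟩
  have hbR : IsIso F R Q b := by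
    have hRT : R ≤ T := by
      intro y hy
      obtain ⟨x, hx, rfl⟩ := haQ.surj hy
      exact ha.mem (hQT hx)
    refine (hb.isMap.mono hRT).isIso_of ?_ ?_
    · intro y hy
      obtain ⟨x, hx, rfl⟩ := haQ.surj hy
      rw [hba x (hQT hx)]
      exact hx
    · intro x hx
      exact ⟨a x, haQ.mem hx, hba x (hQT hx)⟩
  have hRT : R ≤ T := by
    intro y hy
    obtain ⟨x, hx, rfl⟩ := haQ.surj hy
    exact ha.mem (hQT hx)
  have hQfn : E.IsFullyNormalized Q :=
    fn_transport hA ha hQT haQ hb hba (fn_sub hS hF hE hT hRT hRfn)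
  have hQn : IsNice E p Q := nice_of_fn hTp hEs hQfn
  have hPQ : E.IsConj P Q := hf₀i.isConj
  have hgrow : ∀ {R : Subgroup Ω}, R ≤ T → Nat.card R = Nat.card P → Nat.card P < Nat.card (normalizerIn T R) := by
    intro R hR hc
    have : R < T := lt_of_le_of_ne hR fun e => by rw [e] at hc; omega
    have h1 := lt_normalizerIn hTp this
    have h2 : Nat.card R < Nat.card (normalizerIn T R) := hlt_card inf_le_left h1
    omega
  have hkey : ∀ {A : Subgroup Ω}, E.IsConj A Q → ∃ χ, IsIso E A Q χ ∧ IsMap C A χ := by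
    intro A hAQ
    have hAT : A ≤ T := (isConj_le hAQ).1
    obtain ⟨χ, hχ, hχi⟩ := hQn.exists_map_normalizer hTp hAQ
    refine ⟨χ, hχi, ?_⟩
    have h3 : Nat.card A = Nat.card P := by rw [conj_card hPQ, conj_card hAQ]
    exact (hbig hχ (hgrow hAT h3)).mono (le_normalizerIn hAT)
  obtain ⟨χ, hχ, hχg⟩ := hkey hPQ
  have hf' := hf.isIso
  obtain ⟨χ', hχ', hχg'⟩ := hkey (isConj_trans (isConj_symm hf'.isConj) hPQ)
  obtain ⟨χi, hχi, hi1, hi2⟩ := hχ.symm
  obtain ⟨χi', hχi', hi1', hi2'⟩ := hχ'.symm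
  have hβ : IsIso E Q Q (χ' ∘ f ∘ χi) := (hχi.comp hf').comp hχ'
  have hcQ : Nat.card Q = Nat.card P := (conj_card hPQ).symm
  have hβg : IsMap C Q (χ' ∘ f ∘ χi) := by
    by_cases hcen : centralizerIn T Q ≤ Q
    · -- centric case
      have hbaQ : ∀ x ∈ Q, b (a x) = x := fun x hx => hba x (hQT hx)
      have habR : ∀ y ∈ R, a (b y) = y := fun y hy => hab y (hRT hy)
      have hcenR : centralizerIn T R ≤ R := by
        intro c hc
        have h1 : b c ∈ centralizerIn T Q := by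
          rw [mem_centralizerIn]
          refine ⟨hb.mem hc.1, fun y hy => ?_⟩
          have h2 := (mem_centralizerIn.1 hc).2 (a y) (haQ.mem hy)
          have h3 := congrArg b h2
          rw [hb.isMap.map_mul (hRT (haQ.mem hy)) hc.1, hb.isMap.map_mul hc.1 (hRT (haQ.mem hy)), hbaQ y hy] at h3
          exact h3
        have h4 := haQ.mem (hcen h1)
        rwa [hab c hc.1] at h4
      set K' := kGrp hE hQT haQ hbR hbaQ habR with hK'
      have hK'le : K' ≤ E.autGroup Q := fun k hk => (mem_kGrp.1 hk).1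
      have hK'n : ∀ e ∈ E.autGroup Q, ∀ k ∈ K', e * k * e⁻¹ ∈ K' := by
        intro e he k hk
        have hk := mem_kGrp.1 hk
        rw [hK', mem_kGrp]
        refine ⟨Subgroup.mul_mem _ (Subgroup.mul_mem _ he hk.1) (Subgroup.inv_mem _ he), ?_⟩
        have i1 : IsIso F R R (a ∘ fn k ∘ b) :=
          (hbR.comp (isIso_of_sub hE (isIso_of_mem_autGroup hQT hk.1))).comp haQ
        have i2 : IsIso F R R (a ∘ fn e ∘ b) :=
          (hbR.comp (isIso_of_sub hE (isIso_of_mem_autGroup hQT he))).comp haQ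
        have i3 : IsIso F R R (a ∘ fn e⁻¹ ∘ b) :=
          (hbR.comp (isIso_of_sub hE (isIso_of_mem_autGroup hQT (Subgroup.inv_mem _ he)))).comp haQ
        refine (ExtC.conj hR.2 i1 hk.2 i2 i3 (fun x hx => ?_) (fun x hx => ?_)).congr fun x hx => ?_
        · show a (fn e⁻¹ (b (a (fn e (b x))))) = x
          rw [hbaQ _ (fn_mem (hbR.mem hx)), fn_inv_left (hbR.mem hx), habR x hx]
        · show a (fn e (b (a (fn e⁻¹ (b x))))) = x
          rw [hbaQ _ (fn_mem (hbR.mem hx)), fn_inv_right (hbR.mem hx), habR x hx]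
        · show a (fn e (b (a (fn k (b (a (fn e⁻¹ (b x)))))))) = a (fn (e * k * e⁻¹) (b x))
          rw [hbaQ _ (fn_mem (hbR.mem hx)), hbaQ _ (fn_mem (fn_mem (hbR.mem hx))), fn_mul (hbR.mem hx),
            fn_mul (fn_mem (hbR.mem hx))]
      obtain ⟨k, hk, hD⟩ := hQn.frattini hK'le hK'n hβ.aut_mem
      obtain ⟨g, hg, hgx⟩ := hD (normalizerIn T Q) inf_le_left (by
        intro d hd
        let cd : MulAut Q := Q.normalizerMonoidHom ⟨d, hd.2⟩
        have hcd : ∀ x : Q, ((cd x : Q) : Ω) = d * x * d⁻¹ := fun x => rfl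
        refine ⟨cd, mem_kGrp.2 ⟨autInducedBy_le_autGroup E hQT (mem_autInducedBy.2 ⟨d, hd.1, hcd⟩), ?_⟩, hcd⟩
        have hdR : a d ∈ normalizerIn T R := by
          have : Finite R := finite_of_le hRT
          have : Finite Q := finite_of_le hQT
          rw [mem_normalizerIn_iff]
          refine ⟨ha.mem hd.1, fun y hy => ?_⟩
          obtain ⟨z, hz, rfl⟩ := haQ.surj hy
          rw [← ha.isMap.map_conj hd.1 (hQT hz)]
          exact haQ.mem ((mem_normalizerIn_iff.1 hd).2 z hz)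
        refine (extC_norm hT hRT hcenR hdR).congr fun x hx => ?_
        show a d * x * (a d)⁻¹ = a (fn cd (b x))
        rw [fn_apply (hbR.mem hx), hcd ⟨b x, hbR.mem hx⟩, ha.isMap.map_conj hd.1 (hQT (hbR.mem hx)), habR x hx])
      have h4 : IsMap C Q g := (hbig (hg.mono le_sup_right) (hgrow hQT hcQ)).mono (le_normalizerIn hQT)
      have hki : IsIso E Q Q (fn k) := isIso_of_mem_autGroup hQT (mem_kGrp.1 hk).1
      have hkC : IsMap C Q (fn k) :=
        hcore Q (fn k) hQT (isIso_of_sub hE hki) (lift_of_extC hS hF hT hQT ha haQ hba (isIso_of_sub hE hki)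
          (mem_kGrp.1 hk).2)
      obtain ⟨l, hl, l1, l2⟩ := (hkC.isIso_of (Q := Q) (fun x hx => fn_mem hx) (fun y hy =>
        ⟨fn k⁻¹ y, fn_mem hy, fn_inv_right hy⟩)).symm
      have hgQ : ∀ x (hx : x ∈ Q), g x = fn k (χ' (f (χi x))) := by
        intro x hx
        rw [hgx x hx]
        exact (fn_apply (k := k) (hβ.mem hx)).symm
      have h5 : IsMap C Q (l ∘ g) := h4.comp hl.isMap fun x hx => by
        rw [hgQ x hx]; exact fn_mem (hβ.mem hx : (χ' ∘ f ∘ χi) x ∈ Q)
      refine h5.congr fun x hx => ?_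
      show l (g x) = χ' (f (χi x))
      rw [hgQ x hx]
      exact l1 _ (hβ.mem hx : (χ' ∘ f ∘ χi) x ∈ Q)
    · -- non-centric case
      obtain ⟨g, hg, hgx⟩ := (isReceptive_iff.1 hQn.2).2 Q _ hβ
      have hle : Q ⊔ centralizerIn T Q ≤ nphi T Q (χ' ∘ f ∘ χi) := sup_le (le_nphi hβ.isMap) centralizerIn_le_nphi
      have hlt : Q < Q ⊔ centralizerIn T Q := by
        exact lt_of_le_of_ne le_sup_left fun e =>
          hcen ((le_sup_right : centralizerIn T Q ≤ Q ⊔ centralizerIn T Q).trans e.ge)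
      have h1 : Nat.card P < Nat.card ↥(Q ⊔ centralizerIn T Q) := by
        rw [← hcQ]
        exact hlt_card (sup_le hQT centralizerIn_le) hlt
      exact ((hbig (hg.mono hle) h1).mono le_sup_left).congr hgx
  -- conclusion
  have hCi : ∀ {A : Subgroup Ω} {k : Ω → Ω}, IsIso E A Q k → IsMap C A k → IsIso C A Q k := by
    intro A k hk hkC
    exact hkC.isIso_of (fun x hx => hk.mem hx) (fun y hy => hk.surj hy)
  have j1 : IsIso C P Q χ := hCi hχ hχg
  have j2 : IsIso C (img P f) Q χ' := hCi hχ' hχg'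
  obtain ⟨m, hm, m1, m2⟩ := j2.symm
  have j3 : IsMap C P (m ∘ ((χ' ∘ f ∘ χi) ∘ χ)) :=
    (hχg.comp hβg fun x hx => hχ.mem hx).comp hm.isMap fun x hx => hβ.mem (hχ.mem hx)
  refine j3.congr fun x hx => ?_
  show m (χ' (f (χi (χ x)))) = f x
  rw [hi1 x hx, m1 _ (hf'.mem hx)]

end H26.FocCent
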