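import Cfsg.Agent.Lib.H26.FocCent2
import Mathlib.GroupTheory.Exponent
set_option autoImplicit false
set_option linter.unusedSectionVars false

open Cfsg Cfsg.FusionSystem
open scoped commutatorElement

namespace H26.FocCent
open H87.Base H87.Basic H87.Syl H87.Sat H87.Grow H87.Inv H87.Frat H87.Bridge H87.PPow

/-- a coset `gB` of an abelian group `B` normalized by `a` and invariant under `a` contains a fixed point of `a` when the order of `a` is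
prime to that of `B` -/
theorem exists_fixed {G : Type*} [Group G] (B : Subgroup G) [Finite B] (hab : ∀ x ∈ B, ∀ y ∈ B, x * y = y * x)
    (a g : G) (ha : ∀ x ∈ B, a * x * a⁻¹ ∈ B) (hg : g⁻¹ * (a * g * a⁻¹) ∈ B) {n : ℕ} (hn : a ^ n = 1)
    (hc : n.Coprime (Nat.card B)) : ∃ k ∈ B, a * (g * k) * a⁻¹ = g * k := by
  let _ : CommGroup B := { (inferInstance : Group B) with mul_comm := fun x y => Subtype.ext (hab x x.2 y y.2) }
  let c : B →* B :=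
    { toFun := fun x => ⟨a * x * a⁻¹, ha x x.2⟩
      map_one' := Subtype.ext (by simp)
      map_mul' := fun x y => Subtype.ext (by
        show a * ((x : G) * y) * a⁻¹ = a * x * a⁻¹ * (a * y * a⁻¹)
        group) }
  have hk : ∀ i : ℕ, g⁻¹ * (a ^ i * g * (a ^ i)⁻¹) ∈ B := by
    intro i
    induction i with
    | zero => simp
    | succ i ih =>
      have h1 : g⁻¹ * (a ^ (i + 1) * g * (a ^ (i + 1))⁻¹)
          = g⁻¹ * (a * g * a⁻¹) * (a * (g⁻¹ * (a ^ i * g * (a ^ i)⁻¹)) * a⁻¹) := by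
        rw [pow_succ']; group
      rw [h1]
      exact B.mul_mem hg (ha _ ih)
  let k : ℕ → B := fun i => ⟨_, hk i⟩
  have hk0 : k 0 = 1 := Subtype.ext (by simp [k])
  have hkn : k n = 1 := Subtype.ext (by simp [k, hn])
  have hks : ∀ i, k (i + 1) = k 1 * c (k i) := by
    intro i
    apply Subtype.ext
    show g⁻¹ * (a ^ (i + 1) * g * (a ^ (i + 1))⁻¹)
      = g⁻¹ * (a ^ 1 * g * (a ^ 1)⁻¹) * (a * (g⁻¹ * (a ^ i * g * (a ^ i)⁻¹)) * a⁻¹)
    rw [pow_succ']; group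
  obtain ⟨s, hs⟩ : ∃ s, s = ∏ i ∈ Finset.range n, k i := ⟨_, rfl⟩
  have h1 : ∏ i ∈ Finset.range n, k (i + 1) = k 1 ^ n * c s := by
    rw [Finset.prod_congr rfl fun i _ => hks i, Finset.prod_mul_distrib, Finset.prod_const, Finset.card_range, hs,
      map_prod]
  have h2 : s = k 1 ^ n * c s := by
    have h3 := Finset.prod_range_succ k n
    have h4 := Finset.prod_range_succ' k n
    rw [h3, hkn, mul_one, hk0, mul_one, ← hs, h1] at h4
    exact h4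
  obtain ⟨m, hm⟩ : ∃ m : ℕ, n * m ≡ 1 [MOD Nat.card B] := by
    rcases Nat.lt_or_ge 1 (Nat.card B) with h | h
    · obtain ⟨m, hm⟩ := Nat.exists_mul_mod_eq_one_of_coprime hc h
      refine ⟨m, ?_⟩
      rw [Nat.ModEq, hm.2, Nat.mod_eq_of_lt h]
    · refine ⟨0, ?_⟩
      have : Nat.card B = 1 := le_antisymm h Nat.card_pos
      rw [this]; exact Nat.modEq_one
  have h5 : k 1 ^ (n * m) = k 1 := by
    conv_rhs => rw [← pow_one (k 1)]
    refine pow_eq_pow_iff_modEq.2 (hm.of_dvd (orderOf_dvd_natCard _))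
  have h6 : s ^ m = k 1 * c (s ^ m) := by
    conv_lhs => rw [h2]
    rw [mul_pow, ← pow_mul, h5, map_pow]
  refine ⟨(s ^ m : B), (s ^ m).2, ?_⟩
  have h7 := congrArg Subtype.val h6
  have h8 : ((s ^ m : B) : G) = g⁻¹ * (a ^ 1 * g * (a ^ 1)⁻¹) * (a * ((s ^ m : B) : G) * a⁻¹) := h7
  conv_rhs => rw [h8]
  group


variable {Ω : Type*} [Group Ω] {S T : Subgroup Ω} {F : FusionSystem S} {E : FusionSystem T}
  {P Q R K : Subgroup Ω} {f g h a b γ φ ψ : Ω → Ω} {p : ℕ}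

theorem fn_map_mul {k : MulAut P} {x y : Ω} (hx : x ∈ P) (hy : y ∈ P) : fn k (x * y) = fn k x * fn k y := by
  rw [fn_apply hx, fn_apply hy, fn_apply (P.mul_mem hx hy)]
  exact congrArg Subtype.val (map_mul k ⟨x, hx⟩ ⟨y, hy⟩)

theorem fn_map_inv {k : MulAut P} {x : Ω} (hx : x ∈ P) : fn k x⁻¹ = (fn k x)⁻¹ := by
  rw [fn_apply hx, fn_apply (P.inv_mem hx)]
  exact congrArg Subtype.val (map_inv k ⟨x, hx⟩)

theorem fn_ext_sup {k l : MulAut ↥(P ⊔ Q)} (h1 : ∀ x ∈ P, fn k x = fn l x) (h2 : ∀ x ∈ Q, fn k x = fn l x) :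
    k = l := by
  have hP : P ≤ (k.toMonoidHom.eqLocus l.toMonoidHom).map (P ⊔ Q).subtype := by
    intro x hx
    have hx' : x ∈ P ⊔ Q := (le_sup_left : P ≤ P ⊔ Q) hx
    refine ⟨⟨x, hx'⟩, ?_, rfl⟩
    have h3 := h1 x hx
    rw [fn_apply hx', fn_apply hx'] at h3
    exact Subtype.ext h3
  have hQ : Q ≤ (k.toMonoidHom.eqLocus l.toMonoidHom).map (P ⊔ Q).subtype := by
    intro x hx
    have hx' : x ∈ P ⊔ Q := (le_sup_right : Q ≤ P ⊔ Q) hx
    refine ⟨⟨x, hx'⟩, ?_, rfl⟩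
    have h3 := h2 x hx
    rw [fn_apply hx', fn_apply hx'] at h3
    exact Subtype.ext h3
  ext ⟨x, hx⟩
  obtain ⟨y, hy, hyx⟩ := (sup_le hP hQ) hx
  have : y = ⟨x, hx⟩ := Subtype.ext hyx
  subst this
  exact congrArg Subtype.val hy

/-- automorphisms of `PQ` trivial on `P` and moving `Q` by `Z(P)` -/
def bGrp (F : FusionSystem S) (P Q : Subgroup Ω) : Subgroup (MulAut ↥(P ⊔ Q)) where
  carrier := {k | k ∈ F.autGroup (P ⊔ Q) ∧ (∀ x ∈ P, fn k x = x) ∧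
    ∀ q ∈ Q, q⁻¹ * fn k q ∈ P ⊓ Subgroup.centralizer (P : Set Ω)}
  one_mem' := by
    refine ⟨Subgroup.one_mem _, fun x hx => ?_, fun q hq => ?_⟩
    · rw [fn_apply ((le_sup_left : P ≤ P ⊔ Q) hx)]; rfl
    · rw [fn_apply ((le_sup_right : Q ≤ P ⊔ Q) hq)]
      show q⁻¹ * q ∈ _
      rw [inv_mul_cancel]
      exact Subgroup.one_mem _
  mul_mem' := by
    rintro k l ⟨hk, k1, k2⟩ ⟨hl, l1, l2⟩
    refine ⟨Subgroup.mul_mem _ hk hl, fun x hx => ?_, fun q hq => ?_⟩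
    · rw [fn_mul ((le_sup_left : P ≤ P ⊔ Q) hx), l1 x hx, k1 x hx]
    · have hq' := (le_sup_right : Q ≤ P ⊔ Q) hq
      have h1 : fn l q = q * (q⁻¹ * fn l q) := by group
      rw [fn_mul hq', h1, fn_map_mul hq' ((le_sup_left : P ≤ P ⊔ Q) (l2 q hq).1), k1 _ (l2 q hq).1, ← mul_assoc]
      exact Subgroup.mul_mem _ (k2 q hq) (l2 q hq)
  inv_mem' := by
    rintro k ⟨hk, k1, k2⟩
    have k1' : ∀ x ∈ P, fn k⁻¹ x = x := by
      intro x hx
      have := fn_inv_left (k := k) ((le_sup_left : P ≤ P ⊔ Q) hx)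
      rwa [k1 x hx] at this
    refine ⟨Subgroup.inv_mem _ hk, k1', fun q hq => ?_⟩
    have hq' := (le_sup_right : Q ≤ P ⊔ Q) hq
    have h1 : fn k q = q * (q⁻¹ * fn k q) := by group
    have h2 := fn_inv_left (k := k) hq'
    rw [h1, fn_map_mul hq' ((le_sup_left : P ≤ P ⊔ Q) (k2 q hq).1), k1' _ (k2 q hq).1] at h2
    have h3 : fn k⁻¹ q = q * (q⁻¹ * fn k q)⁻¹ := eq_mul_inv_of_mul_eq h2
    rw [h3, inv_mul_cancel_left]
    exact Subgroup.inv_mem _ (k2 q hq)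

theorem mem_bGrp {k : MulAut ↥(P ⊔ Q)} : k ∈ bGrp F P Q ↔ k ∈ F.autGroup (P ⊔ Q) ∧ (∀ x ∈ P, fn k x = x) ∧
    ∀ q ∈ Q, q⁻¹ * fn k q ∈ P ⊓ Subgroup.centralizer (P : Set Ω) := Iff.rfl

theorem bGrp_comm {k l : MulAut ↥(P ⊔ Q)} (hk : k ∈ bGrp F P Q) (hl : l ∈ bGrp F P Q) : k * l = l * k := by
  obtain ⟨-, k1, k2⟩ := mem_bGrp.1 hk
  obtain ⟨-, l1, l2⟩ := mem_bGrp.1 hl
  refine fn_ext_sup (fun x hx => ?_) fun q hq => ?_
  · rw [fn_mul ((le_sup_left : P ≤ P ⊔ Q) hx), fn_mul ((le_sup_left : P ≤ P ⊔ Q) hx), k1 x hx, l1 x hx, k1 x hx]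
  · have hq' := (le_sup_right : Q ≤ P ⊔ Q) hq
    have h1 : fn l q = q * (q⁻¹ * fn l q) := by group
    have h2 : fn k q = q * (q⁻¹ * fn k q) := by group
    have h3 : fn (k * l) q = fn k q * (q⁻¹ * fn l q) := by
      rw [fn_mul hq']
      conv_lhs => rw [h1]
      rw [fn_map_mul hq' ((le_sup_left : P ≤ P ⊔ Q) (l2 q hq).1), k1 _ (l2 q hq).1]
    have h4 : fn (l * k) q = fn l q * (q⁻¹ * fn k q) := by
      rw [fn_mul hq']
      conv_lhs => rw [h2]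
      rw [fn_map_mul hq' ((le_sup_left : P ≤ P ⊔ Q) (k2 q hq).1), l1 _ (k2 q hq).1]
    have h5 := Subgroup.mem_centralizer_iff.1 (k2 q hq).2 _ (l2 q hq).1
    rw [h3, h4]
    calc fn k q * (q⁻¹ * fn l q) = q * ((q⁻¹ * fn k q) * (q⁻¹ * fn l q)) := by group
      _ = q * ((q⁻¹ * fn l q) * (q⁻¹ * fn k q)) := by rw [h5]
      _ = fn l q * (q⁻¹ * fn k q) := by group

theorem bGrp_pGroup [Fact p.Prime] [Finite S] (hS : IsPGroup p S) (hPS : P ≤ S) : IsPGroup p (bGrp F P Q) := by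
  obtain ⟨N, hN⟩ := IsPGroup.iff_card.1 hS
  rintro ⟨k, hk⟩
  refine ⟨N, Subtype.ext ?_⟩
  obtain ⟨-, k1, k2⟩ := mem_bGrp.1 hk
  have hP1 : ∀ i : ℕ, ∀ x ∈ P, fn (k ^ i) x = x := by
    intro i
    induction i with
    | zero =>
      intro x hx
      rw [pow_zero, fn_apply ((le_sup_left : P ≤ P ⊔ Q) hx)]; rfl
    | succ i ih =>
      intro x hx
      rw [pow_succ', fn_mul ((le_sup_left : P ≤ P ⊔ Q) hx), ih x hx, k1 x hx]
  have hQ1 : ∀ i : ℕ, ∀ q ∈ Q, fn (k ^ i) q = q * (q⁻¹ * fn k q) ^ i := by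
    intro i
    induction i with
    | zero =>
      intro x hx
      rw [pow_zero, pow_zero, mul_one, fn_apply ((le_sup_right : Q ≤ P ⊔ Q) hx)]; rfl
    | succ i ih =>
      intro q hq
      have hq' := (le_sup_right : Q ≤ P ⊔ Q) hq
      have hz : (q⁻¹ * fn k q) ^ i ∈ P := P.pow_mem (k2 q hq).1 i
      rw [pow_succ' k, fn_mul hq', ih q hq, fn_map_mul hq' ((le_sup_left : P ≤ P ⊔ Q) hz), k1 _ hz,
        pow_succ' (q⁻¹ * fn k q) i, ← mul_assoc q, mul_inv_cancel_left]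
  show k ^ p ^ N = 1
  refine fn_ext_sup (fun x hx => ?_) fun q hq => ?_
  · rw [hP1 _ x hx, fn_apply ((le_sup_left : P ≤ P ⊔ Q) hx)]; rfl
  · have h1 : (q⁻¹ * fn k q) ^ p ^ N = 1 := by
      have h2 : (⟨_, hPS (k2 q hq).1⟩ : S) ^ Nat.card S = 1 := pow_card_eq_one'
      rw [hN] at h2
      exact congrArg Subtype.val h2
    rw [hQ1 _ q hq, h1, mul_one, fn_apply ((le_sup_right : Q ≤ P ⊔ Q) hq)]; rfl

/-- `g` commutes with `a` after correction -/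
theorem core_aut [Fact p.Prime] [Finite S] (hS : IsPGroup p S) (hPQ : P ⊔ Q ≤ S) {A G : MulAut ↥(P ⊔ Q)}
    (hA : A ∈ F.autGroup (P ⊔ Q)) (hG : G ∈ F.autGroup (P ⊔ Q)) (hAP : ∀ x ∈ P, fn A x = x)
    (hAQ : ∀ x ∈ Q, ∃ y ∈ Q, fn A y = x) (hGP : ∀ x ∈ P, fn G x ∈ P) (hGP' : ∀ x ∈ P, ∃ y ∈ P, fn G y = x)
    (hGQ : ∀ q ∈ Q, q⁻¹ * fn G q ∈ P ⊓ Subgroup.centralizer (P : Set Ω)) {n : ℕ} (hn : A ^ n = 1)
    (hc : n.Coprime p) : ∃ k ∈ bGrp F P Q, A * (G * k) * A⁻¹ = G * k := by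
  have hfin : Finite ↥(P ⊔ Q) := finite_of_le hPQ
  have : Finite (MulAut ↥(P ⊔ Q)) := finite_mulAut
  have hP : P ≤ P ⊔ Q := le_sup_left
  have hQ : Q ≤ P ⊔ Q := le_sup_right
  have hAP' : ∀ x ∈ P, fn A⁻¹ x = x := by
    intro x hx
    have := fn_inv_left (k := A) (hP hx)
    rwa [hAP x hx] at this
  have hAQ' : ∀ x ∈ Q, fn A⁻¹ x ∈ Q := by
    intro x hx
    obtain ⟨y, hy, rfl⟩ := hAQ x hx
    rw [fn_inv_left (hQ hy)]
    exact hy
  have hGi : ∀ x ∈ P, fn G⁻¹ x ∈ P := by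
    intro x hx
    obtain ⟨y, hy, rfl⟩ := hGP' x hx
    rw [fn_inv_left (hP hy)]
    exact hy
  have hGZ : ∀ z ∈ P ⊓ Subgroup.centralizer (P : Set Ω), fn G⁻¹ z ∈ P ⊓ Subgroup.centralizer (P : Set Ω) := by
    intro z hz
    refine Subgroup.mem_inf.2 ⟨hGi z hz.1, ?_⟩
    rw [Subgroup.mem_centralizer_iff]
    intro y hy
    have h1 := Subgroup.mem_centralizer_iff.1 hz.2 _ (hGP y hy)
    have h2 := congrArg (fn G⁻¹) h1
    rw [fn_map_mul (hP (hGP y hy)) (hP hz.1), fn_map_mul (hP hz.1) (hP (hGP y hy)), fn_inv_left (hP hy)] at h2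
    exact h2
  refine exists_fixed (bGrp F P Q) (fun x hx y hy => bGrp_comm hx hy) A G ?_ ?_ hn ?_
  · intro k hk
    obtain ⟨hk0, k1, k2⟩ := mem_bGrp.1 hk
    refine mem_bGrp.2 ⟨Subgroup.mul_mem _ (Subgroup.mul_mem _ hA hk0) (Subgroup.inv_mem _ hA), fun x hx => ?_,
      fun q hq => ?_⟩
    · rw [fn_mul (hP hx), hAP' x hx, fn_mul (hP hx), k1 x hx, hAP x hx]
    · obtain ⟨y, hy, rfl⟩ := hAQ q hq
      have h1 : fn k y = y * (y⁻¹ * fn k y) := by group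
      have h2 : fn (A * k * A⁻¹) (fn A y) = fn A y * (y⁻¹ * fn k y) := by
        rw [fn_mul (hQ hq), fn_inv_left (hQ hy), fn_mul (hQ hy)]
        conv_lhs => rw [h1]
        rw [fn_map_mul (hQ hy) (hP (k2 y hy).1), hAP _ (k2 y hy).1]
      rw [h2, inv_mul_cancel_left]
      exact k2 y hy
  · refine mem_bGrp.2 ⟨Subgroup.mul_mem _ (Subgroup.inv_mem _ hG) (Subgroup.mul_mem _ (Subgroup.mul_mem _ hA hG)
      (Subgroup.inv_mem _ hA)), fun x hx => ?_, fun q hq => ?_⟩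
    · rw [fn_mul (hP hx), fn_mul (hP hx), hAP' x hx, fn_mul (hP hx), hAP _ (hGP x hx), fn_inv_left (hP hx)]
    · obtain ⟨y, hy, rfl⟩ := hAQ q hq
      have h1 : fn G y = y * (y⁻¹ * fn G y) := by group
      have hz := hGQ y hy
      have hz' := hGQ _ hq
      have h2 : fn (A * G * A⁻¹) (fn A y) = fn A y * (y⁻¹ * fn G y) := by
        rw [fn_mul (hQ hq), fn_inv_left (hQ hy), fn_mul (hQ hy)]
        conv_lhs => rw [h1]
        rw [fn_map_mul (hQ hy) (hP hz.1), hAP _ hz.1]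
      have h3 : fn G (fn A y) = fn A y * ((fn A y)⁻¹ * fn G (fn A y)) := by group
      have h4 := fn_inv_left (k := G) (hQ hq)
      rw [h3, fn_map_mul (hQ hq) (hP hz'.1)] at h4
      have h5 : fn G⁻¹ (fn A y) = fn A y * (fn G⁻¹ ((fn A y)⁻¹ * fn G (fn A y)))⁻¹ := eq_mul_inv_of_mul_eq h4
      rw [fn_mul (hQ hq), h2, fn_map_mul (hQ hq) (hP hz.1), h5, mul_assoc, inv_mul_cancel_left]
      exact Subgroup.mul_mem _ (Subgroup.inv_mem _ (hGZ _ hz')) (hGZ _ hz)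
  · obtain ⟨m, hm⟩ := IsPGroup.iff_card.1 (bGrp_pGroup (F := F) (Q := Q) hS ((le_sup_left : P ≤ P ⊔ Q).trans hPQ))
    rw [hm]
    exact Nat.Coprime.pow_right m hc

/-- the core: for generators `x⁻¹ α(x)` of the hyperfocal subgroup -/
theorem core_hyp [Fact p.Prime] [Finite S] (hS : IsPGroup p S) (hTS : T ≤ S) (hPT : P ≤ T) (hγ : IsIso F P P γ)
    (hl : Lift F (centralizerIn S T) P γ) {D : FusionSystem (centralizerIn S T)} (hD : F.IsCentralizerSystem T D)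
    (hQ : Q ≤ centralizerIn S T) {α : MulAut Q} (hα : α ∈ D.autGroup Q) (hc : (orderOf α).Coprime p) (x : Q) :
    ∃ g, IsMap F (P ⊔ Subgroup.zpowers ((x : Ω)⁻¹ * ((α x : Q) : Ω))) g ∧ (∀ x ∈ P, g x = γ x) ∧
      g ((x : Ω)⁻¹ * ((α x : Q) : Ω)) = (x : Ω)⁻¹ * ((α x : Q) : Ω) := by
  obtain ⟨h, hh, h1, h2⟩ := hl
  have hαD := (isIso_of_mem_autGroup hQ hα).isMap
  obtain ⟨-, -, a, ha, a1, a2⟩ := (H87.CMap.isMap_centralizer_iff hD).1 hαD
  have a1' : ∀ x ∈ Q, a x = fn α x := a1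
  have hPQ : P ⊔ Q ≤ Q ⊔ T := sup_le (hPT.trans le_sup_right) le_sup_left
  have hP : P ≤ P ⊔ Q := le_sup_left
  have hQ' : Q ≤ P ⊔ Q := le_sup_right
  have haV : IsIso F (P ⊔ Q) (P ⊔ Q) a := isIso_self (ha.mono hPQ) (mem_of_sup (ha.mono hPQ)
    (fun x hx => by rw [a2 x (hPT hx)]; exact hP hx) (fun x hx => by rw [a1' x hx]; exact hQ' (fn_mem hx)))
  have hPK : P ⊔ Q ≤ P ⊔ centralizerIn S T := sup_le_sup_left hQ P
  have hV : P ⊔ Q ≤ S := haV.le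
  have hgV : IsIso F (P ⊔ Q) (P ⊔ Q) h := isIso_self (hh.isMap.mono hPK) (mem_of_sup (hh.isMap.mono hPK)
    (fun x hx => by rw [h1 x hx]; exact hP (hγ.mem hx)) (fun x hx => by
      have h3 : h x = x * (x⁻¹ * h x) := by group
      rw [h3]
      exact Subgroup.mul_mem _ (hQ' hx) (hP (h2 x (hQ hx)).1)))
  obtain ⟨A, hA, hAe⟩ : ∃ A : MulAut ↥(P ⊔ Q), A ∈ F.autGroup (P ⊔ Q) ∧ ∀ x ∈ P ⊔ Q, fn A x = a x :=
    ⟨haV.aut, haV.aut_mem, fun x hx => by rw [fn_apply hx, IsIso.aut_apply]⟩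
  obtain ⟨G, hG, hGe⟩ : ∃ G : MulAut ↥(P ⊔ Q), G ∈ F.autGroup (P ⊔ Q) ∧ ∀ x ∈ P ⊔ Q, fn G x = h x :=
    ⟨hgV.aut, hgV.aut_mem, fun x hx => by rw [fn_apply hx, IsIso.aut_apply]⟩
  have hAP : ∀ x ∈ P, fn A x = x := fun x hx => by rw [hAe x (hP hx), a2 x (hPT hx)]
  have hAQ : ∀ x ∈ Q, fn A x = fn α x := fun x hx => by rw [hAe x (hQ' hx), a1' x hx]
  have hGP : ∀ x ∈ P, fn G x = γ x := fun x hx => by rw [hGe x (hP hx), h1 x hx]
  have hGQ : ∀ q ∈ Q, q⁻¹ * fn G q ∈ P ⊓ Subgroup.centralizer (P : Set Ω) := fun q hq => by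
    rw [hGe q (hQ' hq)]; exact h2 q (hQ hq)
  have hn : A ^ orderOf α = 1 := by
    have hP1 : ∀ i : ℕ, ∀ x ∈ P, fn (A ^ i) x = x := by
      intro i
      induction i with
      | zero =>
        intro x hx
        rw [pow_zero, fn_apply (hP hx)]; rfl
      | succ i ih =>
        intro x hx
        rw [pow_succ', fn_mul (hP hx), ih x hx, hAP x hx]
    have hQ1 : ∀ i : ℕ, ∀ x ∈ Q, fn (A ^ i) x = fn (α ^ i) x := by
      intro i
      induction i with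
      | zero =>
        intro x hx
        rw [pow_zero, pow_zero, fn_apply (hQ' hx), fn_apply hx]; rfl
      | succ i ih =>
        intro x hx
        rw [pow_succ' A, pow_succ' α, fn_mul (hQ' hx), ih x hx, fn_mul hx, hAQ _ (fn_mem hx)]
    refine fn_ext_sup (fun x hx => ?_) fun q hq => ?_
    · rw [hP1 _ x hx, fn_apply (hP hx)]; rfl
    · rw [hQ1 _ q hq, pow_orderOf_eq_one, fn_apply hq, fn_apply (hQ' hq)]; rfl
  obtain ⟨k, hk, hk'⟩ := core_aut hS hV hA hG hAP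
    (fun x hx => ⟨fn α⁻¹ x, fn_mem hx, by rw [hAQ _ (fn_mem hx), fn_inv_right hx]⟩)
    (fun x hx => by rw [hGP x hx]; exact hγ.mem hx)
    (fun x hx => by
      obtain ⟨y, hy, e⟩ := hγ.surj hx
      exact ⟨y, hy, by rw [hGP y hy, e]⟩) hGQ hn hc
  obtain ⟨hk0, k1, k2⟩ := mem_bGrp.1 hk
  have hcomm : A * (G * k) = (G * k) * A := mul_inv_eq_iff_eq_mul.1 hk'
  obtain ⟨x, hx⟩ := x
  have hyx : fn A x = ((α ⟨x, hx⟩ : Q) : Ω) := by rw [hAQ x hx, fn_apply hx]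
  rw [← hyx]
  have hAx : fn A x ∈ Q := by rw [hAQ x hx]; exact fn_mem hx
  have hy : x⁻¹ * fn A x ∈ Q := Q.mul_mem (Q.inv_mem hx) hAx
  have hGk : ∀ x ∈ P, fn (G * k) x = γ x := fun x hx => by
    rw [fn_mul (hP hx), k1 x hx, hGP x hx]
  -- value at `x`
  obtain ⟨z, hz, hxz⟩ : ∃ z ∈ P, fn (G * k) x = x * z := by
    have h3 : fn k x = x * (x⁻¹ * fn k x) := by group
    have h4 : fn G x = x * (x⁻¹ * fn G x) := by group
    refine ⟨(x⁻¹ * fn G x) * γ (x⁻¹ * fn k x), P.mul_mem (hGQ x hx).1 (hγ.mem (k2 x hx).1), ?_⟩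
    rw [fn_mul (hQ' hx)]
    conv_lhs => rw [h3]
    rw [fn_map_mul (hQ' hx) (hP (k2 x hx).1), hGP _ (k2 x hx).1]
    group
  have hAxz : fn (G * k) (fn A x) = fn A x * z := by
    rw [← fn_mul (hQ' hx), ← hcomm, fn_mul (hQ' hx), hxz, fn_map_mul (hQ' hx) (hP hz), hAP z hz]
  have hfix : fn (G * k) (x⁻¹ * fn A x) = x⁻¹ * fn A x := by
    rw [fn_map_mul (hQ' (Q.inv_mem hx)) (hQ' hAx), fn_map_inv (hQ' hx), hxz, hAxz]
    have h3 := (mem_centralizerIn.1 (hQ hy)).2 z (hPT hz)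
    calc (x * z)⁻¹ * (fn A x * z) = z⁻¹ * ((x⁻¹ * fn A x) * z) := by group
      _ = z⁻¹ * (z * (x⁻¹ * fn A x)) := by rw [h3]
      _ = x⁻¹ * fn A x := by group
  refine ⟨fn (G * k), ?_, hGk, hfix⟩
  exact (isIso_of_mem_autGroup hV (Subgroup.mul_mem _ hG hk0)).isMap.mono
    (sup_le hP ((Subgroup.zpowers_le.2 hy).trans hQ'))

/-- the core for commutators -/
theorem core_comm [Finite S] (hTS : T ≤ S) (hPT : P ≤ T) (hl : Lift F (centralizerIn S T) P γ)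
    {y : Ω} (hy : y ∈ ⁅centralizerIn S T, centralizerIn S T⁆) :
    ∃ g, IsMap F (P ⊔ Subgroup.zpowers y) g ∧ (∀ x ∈ P, g x = γ x) ∧ g y = y := by
  obtain ⟨h, hh, h1, h2⟩ := hl
  set K := centralizerIn S T with hK
  have hKP : K ≤ P ⊔ K := le_sup_right
  have hcK : ⁅K, K⁆ ≤ K := Subgroup.commutator_le_self K
  have hcomm : ∀ c ∈ K, ∀ z ∈ T, z * c = c * z := fun c hc z hz => (mem_centralizerIn.1 hc).2 z hz
  have hfix : ∀ y ∈ ⁅K, K⁆, h y = y := by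
    have hle : ⁅K, K⁆ ≤ ((hh.aut.toMonoidHom.eqLocus (MonoidHom.id _)).map (P ⊔ K).subtype) := by
      rw [Subgroup.commutator_le]
      intro c hc d hd
      refine ⟨⟨⁅c, d⁆, hKP (hcK (Subgroup.commutator_mem_commutator hc hd))⟩, ?_, rfl⟩
      apply Subtype.ext
      show h ⁅c, d⁆ = ⁅c, d⁆
      have e1 : h c = c * (c⁻¹ * h c) := by group
      have e2 : h d = d * (d⁻¹ * h d) := by group
      have hz := h2 c hc
      have hw := h2 d hd
      have h3 := Subgroup.mem_centralizer_iff.1 hz.2 _ hw.1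
      have h4 := hcomm c hc _ (hPT hw.1)
      have h5 := hcomm d hd _ (hPT hz.1)
      rw [commutatorElement_def, hh.isMap.map_mul (hKP (K.mul_mem (K.mul_mem hc hd) (K.inv_mem hc)))
        (hKP (K.inv_mem hd)), hh.isMap.map_mul (hKP (K.mul_mem hc hd)) (hKP (K.inv_mem hc)),
        hh.isMap.map_mul (hKP hc) (hKP hd), hh.isMap.map_inv (hKP hc), hh.isMap.map_inv (hKP hd)]
      obtain ⟨z, hz'⟩ : ∃ z, z = c⁻¹ * h c := ⟨_, rfl⟩
      obtain ⟨w, hw'⟩ : ∃ w, w = d⁻¹ * h d := ⟨_, rfl⟩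
      rw [← hz'] at e1 h3 h5
      rw [← hw'] at e2 h3 h4
      rw [e1, e2]
      -- `w z = z w`, `w c = c w`, `z d = d z`
      calc c * z * (d * w) * (c * z)⁻¹ * (d * w)⁻¹ = c * (z * d) * w * z⁻¹ * c⁻¹ * w⁻¹ * d⁻¹ := by group
        _ = c * d * (z * w) * z⁻¹ * c⁻¹ * w⁻¹ * d⁻¹ := by rw [h5]; group
        _ = c * d * (w * z) * z⁻¹ * c⁻¹ * w⁻¹ * d⁻¹ := by rw [h3]
        _ = c * d * w * (w * c)⁻¹ * d⁻¹ := by group
        _ = c * d * w * (c * w)⁻¹ * d⁻¹ := by rw [h4]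
        _ = c * d * c⁻¹ * d⁻¹ := by group
    intro y hy
    obtain ⟨⟨u, hu⟩, hu1, hu2⟩ := hle hy
    have hu2' : u = y := hu2
    subst hu2'
    exact congrArg Subtype.val hu1
  exact ⟨h, hh.isMap.mono (sup_le_sup_left ((Subgroup.zpowers_le.2 (hcK hy))) P), h1, hfix y hy⟩

theorem cent_mem [Fact p.Prime] [Finite S] (hS : IsPGroup p S) (hN : E.IsNormalIn F p) {y : Ω}
    (hy : y ∈ centralizerIn S T)
    (h : ∀ (P : Subgroup Ω) (γ : Ω → Ω), P ≤ T → IsIso F P P γ → Lift F (centralizerIn S T) P γ →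
      ∃ g, IsMap F (P ⊔ Subgroup.zpowers y) g ∧ (∀ x ∈ P, g x = γ x) ∧ g y = y) (P : Subgroup Ω) :
    E.Hom P ⊆ F.centralizerHom (Subgroup.zpowers y) P := by
  have hTS : T ≤ S := (isInvariantIn_iff.1 (isNormalIn_iff.1 hN).2.2.1).2.1.1
  have hyS : Subgroup.zpowers y ≤ S := Subgroup.zpowers_le.2 hy.1
  obtain ⟨C, hC⟩ := H87.CMap.exists_centralizerSystem F hyS
  have hTC : T ≤ centralizerIn S (Subgroup.zpowers y) := by
    intro t ht
    refine mem_centralizerIn.2 ⟨hTS ht, fun u hu => ?_⟩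
    have h1 : t ∈ Subgroup.centralizer ({y} : Set Ω) := by
      rw [Subgroup.mem_centralizer_singleton_iff]
      exact (mem_centralizerIn.1 hy).2 t ht
    obtain ⟨n, rfl⟩ := Subgroup.mem_zpowers_iff.1 hu
    have h2 : Commute y t := ((Subgroup.mem_centralizer_singleton_iff.1 h1)).symm
    exact h2.zpow_left n
  intro φ hφ
  have hmain : IsMap C P (extFun φ) := by
    refine main_ind hS hN C (fun P γ hPT hγ hl => ?_) (isMap_of_mem hφ)
    obtain ⟨g, hg, g1, g2⟩ := h P γ hPT hγ hl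
    rw [H87.CMap.isMap_centralizer_iff hC]
    refine ⟨hPT.trans hTC, fun x hx => hTC (hPT (hγ.mem hx)), g, hg, g1, fun u hu => ?_⟩
    have hm : ∀ v ∈ Subgroup.zpowers y, v ∈ P ⊔ Subgroup.zpowers y := fun v hv =>
      (le_sup_right : Subgroup.zpowers y ≤ P ⊔ Subgroup.zpowers y) hv
    have hy' : y ∈ Subgroup.zpowers y := Subgroup.mem_zpowers y
    refine Subgroup.closure_induction (p := fun v _ => g v = v ∧ v ∈ Subgroup.zpowers y) ?_ ?_ ?_ ?_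
      (by rwa [Subgroup.zpowers_eq_closure] at hu : u ∈ Subgroup.closure {y}) |>.1
    · rintro v rfl
      exact ⟨g2, hy'⟩
    · exact ⟨hg.map_one, Subgroup.one_mem _⟩
    · rintro v w - - ⟨hv, hv'⟩ ⟨hw, hw'⟩
      exact ⟨by rw [hg.map_mul (hm v hv') (hm w hw'), hv, hw], Subgroup.mul_mem _ hv' hw'⟩
    · rintro v - ⟨hv, hv'⟩
      exact ⟨by rw [hg.map_inv (hm v hv'), hv], Subgroup.inv_mem _ hv'⟩
  exact (H87.CMap.mem_centralizerHom_iff fun x => (extFun_coe φ x).symm).2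
    ((H87.CMap.isMap_centralizer_iff hC).1 hmain)

theorem main [Fact p.Prime] [Finite S] (hS : IsPGroup p S) (hN : E.IsNormalIn F p)
    {D : FusionSystem (centralizerIn S T)} (hD : F.IsCentralizerSystem T D) :
    D.focalSubgroup ≤ sSup {X : Subgroup Ω | X ≤ centralizerIn S T ∧ ∀ P : Subgroup Ω, E.Hom P ⊆ F.centralizerHom X P} := by
  obtain ⟨hEs, hF, hInv, hext⟩ := isNormalIn_iff.1 hN
  obtain ⟨hE, hT, hA, hFr⟩ := isInvariantIn_iff.1 hInv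
  have hTS := hT.1
  have hDs : D.IsSaturated p :=
    H89.KSat3.centralizer_saturated hS hF (H87.CMap.fullyCentralized_of_stronglyClosed hT) hD
  have hKfin : Finite (centralizerIn S T) := finite_of_le centralizerIn_le
  have hKp : IsPGroup p (centralizerIn S T) := hS.to_le centralizerIn_le
  rw [H88.Focal.foc_eq hKp hDs]
  have key : ∀ y ∈ centralizerIn S T, (∀ (P : Subgroup Ω) (γ : Ω → Ω), P ≤ T → IsIso F P P γ →
      Lift F (centralizerIn S T) P γ →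
      ∃ g, IsMap F (P ⊔ Subgroup.zpowers y) g ∧ (∀ x ∈ P, g x = γ x) ∧ g y = y) →
      y ∈ sSup {X : Subgroup Ω | X ≤ centralizerIn S T ∧ ∀ P : Subgroup Ω, E.Hom P ⊆ F.centralizerHom X P} := by
    intro y hy h
    have h1 : Subgroup.zpowers y ≤
        sSup {X : Subgroup Ω | X ≤ centralizerIn S T ∧ ∀ P : Subgroup Ω, E.Hom P ⊆ F.centralizerHom X P} :=
      le_sSup ⟨Subgroup.zpowers_le.2 hy, cent_mem hS hN hy h⟩
    exact h1 (Subgroup.mem_zpowers y)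
  refine sup_le (H88.Focal.hyp_le_of fun Q hQ α hα hc x => ?_) ?_
  · refine key _ (Subgroup.mul_mem _ (Subgroup.inv_mem _ (hQ x.2)) (hQ (α x).2)) fun P γ hPT hγ hl => ?_
    exact core_hyp hS hTS hPT hγ hl hD hQ hα hc x
  · intro y hy
    refine key y (Subgroup.commutator_le_self _ hy) fun P γ hPT hγ hl => ?_
    exact core_comm hTS hPT hl hy

end H26.FocCent
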