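import Cfsg.Agent.Lib.H87.NE3
import Cfsg.Agent.Lib.H87.Crit5
import Cfsg.Agent.Lib.H57.Ess2
import Cfsg.Agent.Lib.H89.Normal
set_option autoImplicit false
set_option linter.unusedSectionVars false

open Cfsg Cfsg.FusionSystem

namespace H26.HeisFus
open H87.Base H87.Basic H87.Syl H87.Sat H87.Grow H87.Inv H87.Frat H87.Cut H87.PPow H87.Crit H87.PPr H87.NE

variable {Ω : Type*} [Group Ω] {S : Subgroup Ω} {F : FusionSystem S}
  {P Q R X Y : Subgroup Ω} {f g h a b : Ω → Ω} {p : ℕ}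

/-- the structure of a Heisenberg group -/
structure HeisIn (S : Subgroup Ω) : Prop where
  comm : ∀ x ∈ S, ∀ s ∈ S, s * x * s⁻¹ * x⁻¹ ∈ centralizerIn S S
  cent : ∀ x ∈ S, x ∉ centralizerIn S S → ∀ y ∈ S, ∀ z ∈ S, x * y = y * x → x * z = z * x → y * z = z * y
  surj : ∀ x ∈ S, x ∉ centralizerIn S S → ∀ z ∈ centralizerIn S S, ∃ s ∈ S, s * x * s⁻¹ = x * z

theorem mem_Z {z : Ω} : z ∈ centralizerIn S S ↔ z ∈ S ∧ ∀ y ∈ S, y * z = z * y := mem_centralizerIn

/-- centric radical proper subgroups -/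
structure CR (F : FusionSystem S) (p : ℕ) (P : Subgroup Ω) : Prop where
  cent : F.IsCentric P
  rad : F.IsRadical p P
  ne : P ≠ S

theorem CR.le (h : CR F p P) : P ≤ S := h.cent.1

theorem CR.cc (h : CR F p P) : centralizerIn S P ≤ P := h.cent.2 P (isConj_refl F h.le)

theorem CR.Z_le (h : CR F p P) : centralizerIn S S ≤ P := fun z hz =>
  h.cc (mem_centralizerIn.2 ⟨hz.1, fun y hy => (mem_Z.1 hz).2 y (h.le hy)⟩)

theorem CR.core_eq (h : CR F p P) : core F p P = autInducedBy P P := by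
  rw [H86.FusBasic.autInducedBy_self]; exact h.rad.2

theorem CR.conj_mem (hH : HeisIn S) (h : CR F p P) {s x : Ω} (hs : s ∈ S) (hx : x ∈ P) : s * x * s⁻¹ ∈ P := by
  have h1 := P.mul_mem (h.Z_le (hH.comm x (h.le hx) s hs)) hx
  rwa [inv_mul_cancel_right] at h1

theorem CR.norm [Finite S] (hH : HeisIn S) (h : CR F p P) {s : Ω} (hs : s ∈ S) : s ∈ Subgroup.normalizer (P : Set Ω) := by
  have : Finite P := finite_of_le h.le
  exact mem_normalizer_iff_of_finite.2 fun x hx => h.conj_mem hH hs hx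

/-- `Z(S)` is not invariant -/
theorem CR.not_inv [Fact p.Prime] [Finite S] (hS : IsPGroup p S) (hH : HeisIn S) (h : CR F p P) :
    ¬ ∀ α ∈ F.autGroup P, ∀ z ∈ centralizerIn S S, fn α z ∈ centralizerIn S S := by
  intro hinv
  have hfin : Finite P := finite_of_le h.le
  have hle : stb P (centralizerIn S S) h.Z_le ⊓ F.autGroup P ≤ core F p P := by
    refine le_core inf_le_right (stb_normal hinv) ?_
    have : Finite ↥(centralizerIn S S) := finite_of_le centralizerIn_le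
    exact (stb_isPGroup (hS.to_le centralizerIn_le)).to_le inf_le_left
  apply h.ne
  refine le_antisymm h.le fun s hs => ?_
  have hsn := h.norm hH hs
  have h1 : cj P hsn ∈ core F p P := by
    refine hle ⟨⟨fun z hz => ?_, fun x hx => ?_⟩, autInducedBy_le_autGroup F h.le (cj_mem hsn hs)⟩
    · rw [fn_cj hsn (h.Z_le hz), (mem_Z.1 hz).2 s hs]; group
    · rw [fn_cj hsn hx]
      have h2 := hH.comm x (h.le hx) s hs
      have h3 : x⁻¹ * (s * x * s⁻¹) = x⁻¹ * (s * x * s⁻¹ * x⁻¹) * x := by group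
      rw [h3, mul_assoc, ← (mem_Z.1 h2).2 x (h.le hx), ← mul_assoc, inv_mul_cancel, one_mul]
      exact h2
  rw [h.core_eq] at h1
  obtain ⟨u, hu, hu'⟩ := fn_autInduced h1
  have h5 : u⁻¹ * s ∈ centralizerIn S P := by
    rw [mem_centralizerIn]
    refine ⟨S.mul_mem (S.inv_mem (h.le hu)) hs, fun y hy => ?_⟩
    have h6 := hu' y hy
    rw [fn_cj hsn hy] at h6
    have h7 : s * y = u * y * u⁻¹ * s := by rw [← h6]; group
    calc y * (u⁻¹ * s) = u⁻¹ * (u * y * u⁻¹ * s) := by group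
      _ = u⁻¹ * (s * y) := by rw [h7]
      _ = u⁻¹ * s * y := by group
  have h6 := P.mul_mem hu (h.cc h5)
  rwa [mul_inv_cancel_left] at h6

/-- `P` is abelian -/
theorem CR.ab [Fact p.Prime] [Finite S] (hS : IsPGroup p S) (hH : HeisIn S) (h : CR F p P) :
    ∀ x ∈ P, ∀ y ∈ P, x * y = y * x := by
  by_contra hcon
  push Not at hcon
  obtain ⟨x, hx, y, hy, hxy⟩ := hcon
  have hchar : ∀ u ∈ P, (∀ w ∈ P, u * w = w * u) → u ∈ centralizerIn S S := by
    intro u hu hc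
    by_contra hu'
    exact hxy (hH.cent u (h.le hu) hu' x (h.le hx) y (h.le hy) (hc x hx) (hc y hy))
  refine h.not_inv hS hH fun α hα z hz => hchar _ (fn_mem α (h.Z_le hz)) fun w hw => ?_
  have hαi := fn_iso (F := F) h.le hα
  obtain ⟨v, hv, rfl⟩ := hαi.surj hw
  rw [← fn_map_mul α (h.Z_le hz) hv, ← fn_map_mul α hv (h.Z_le hz), (mem_Z.1 hz).2 v (h.le hv)]

theorem CR.mem_of_comm [Fact p.Prime] [Finite S] (hS : IsPGroup p S) (hH : HeisIn S) (h : CR F p P) {x y : Ω}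
    (hx : x ∈ P) (hxZ : x ∉ centralizerIn S S) (hy : y ∈ S) (hxy : x * y = y * x) : y ∈ P := by
  refine h.cc (mem_centralizerIn.2 ⟨hy, fun w hw => ?_⟩)
  exact (hH.cent x (h.le hx) hxZ w (h.le hw) y hy (h.ab hS hH x hx w hw) hxy)

/-- two different centric radical subgroups meet in `Z(S)` -/
theorem CR.unique [Fact p.Prime] [Finite S] (hS : IsPGroup p S) (hH : HeisIn S) (h : CR F p P) (h' : CR F p Q)
    (hne : P ≠ Q) : P ⊓ Q ≤ centralizerIn S S := by
  intro x hx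
  by_contra hxZ
  apply hne
  apply le_antisymm
  · intro y hy
    exact h'.mem_of_comm hS hH hx.2 hxZ (h.le hy) (h.ab hS hH x hx.1 y hy)
  · intro y hy
    exact h.mem_of_comm hS hH hx.1 hxZ (h'.le hy) (h'.ab hS hH x hx.2 y hy)

theorem CR.syl [Fact p.Prime] [Finite S] (hS : IsPGroup p S) (hF : F.IsSaturated p) (hH : HeisIn S) (h : CR F p P) :
    SylIn p (autInducedBy S P) (F.autGroup P) := by
  have hn : F.IsFullyNormalized P := by
    refine ⟨h.le, fun Q hQ => ?_⟩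
    have h1 : normalizerIn S P = S := inf_eq_left.2 fun s hs => h.norm hH hs
    rw [h1]
    exact Nat.card_le_card_of_injective _ (Subgroup.inclusion_injective inf_le_left)
  exact (isFullyAutomized_iff.1 (H87.Bridge.nice_of_fn hS hF hn).1).2

/-- no nontrivial subgroup of `Z(S)` is `Aut_F(P)`-invariant -/
theorem CR.no_inv [Fact p.Prime] [Finite S] (hS : IsPGroup p S) (hF : F.IsSaturated p) (hH : HeisIn S)
    (h : CR F p P) (hQ : Q ≤ centralizerIn S S) (hinv : ∀ α ∈ F.autGroup P, ∀ x ∈ Q, fn α x ∈ Q) : Q = ⊥ := by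
  by_contra hQ1
  obtain ⟨⟨z₀, hz₀⟩, hw⟩ := Subgroup.ne_bot_iff_exists_ne_one.1 hQ1
  have hz₀1 : z₀ ≠ 1 := fun e => hw (Subtype.ext e)
  have hfin : Finite P := finite_of_le h.le
  have : Finite (MulAut P) := finite_mulAut
  have hZfin : Finite ↥(centralizerIn S S) := finite_of_le centralizerIn_le
  set Z := centralizerIn S S with hZ
  have hZP : Z ≤ P := h.Z_le
  let A : Set (MulAut P) := {α | α ∈ F.autGroup P ∧ ∃ z ∈ Z, fn α z ∉ Z}
  have hA : A.Nonempty := by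
    by_contra hcon
    rw [Set.not_nonempty_iff_eq_empty] at hcon
    refine h.not_inv hS hH fun α hα z hz => ?_
    by_contra hz'
    have : α ∈ A := ⟨hα, z, hz, hz'⟩
    rw [hcon] at this
    exact this
  obtain ⟨α, ⟨hα, z, hz, hz'⟩, hmax⟩ := Set.exists_max_image A (fun α => Nat.card ↥(Z ⊓ img Z (fn α))) (Set.toFinite A) hA
  have hαi := fn_iso (F := F) h.le hα
  have hαinv := Subgroup.inv_mem _ hα
  have hαi' := fn_iso (F := F) h.le hαinv
  obtain ⟨s, hs, hs'⟩ := hH.surj (fn α z) (h.le (fn_mem α (hZP hz))) hz' z₀ (hQ hz₀)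
  have hsn := h.norm hH hs
  have hc := cj_mem (U := P) hsn hs
  have hcF := autInducedBy_le_autGroup F h.le hc
  have hγ : α⁻¹ * cj P hsn * α ∈ F.autGroup P := Subgroup.mul_mem _ (Subgroup.mul_mem _ hαinv hcF) hα
  have hz₀P : z₀ ∈ P := hZP (hQ hz₀)
  have hw₀ : fn α⁻¹ z₀ ∈ Q := hinv _ hαinv z₀ hz₀
  have hγz : fn (α⁻¹ * cj P hsn * α) z = z * fn α⁻¹ z₀ := by
    rw [fn_mul _ _ (hZP hz), fn_mul _ _ (fn_mem α (hZP hz)), fn_cj hsn (fn_mem α (hZP hz)), hs',
      fn_map_mul _ (fn_mem α (hZP hz)) hz₀P, fn_inv_apply α (hZP hz)]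
  have hw₀1 : fn α⁻¹ z₀ ≠ 1 := by
    intro e
    have h1 := fn_apply_inv α hz₀P
    rw [e, hαi.isMap.map_one] at h1
    exact hz₀1 h1.symm
  -- `γ` moves `Z`
  have hγA : α⁻¹ * cj P hsn * α ∈ A := by
    refine ⟨hγ, ?_⟩
    by_contra hcon
    push Not at hcon
    -- `stb P Z`
    let N1 : Subgroup (MulAut P) := stb P Z hZP ⊓ F.autGroup P
    have hN1p : IsPGroup p N1 := (stb_isPGroup (hS.to_le centralizerIn_le)).to_le inf_le_left
    have hSN : autInducedBy S P ≤ N1 := by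
      intro κ hκ
      obtain ⟨t, ht, ht'⟩ := fn_autInduced hκ
      refine ⟨⟨fun y hy => ?_, fun x hx => ?_⟩, autInducedBy_le_autGroup F h.le hκ⟩
      · rw [ht' y (hZP hy), (mem_Z.1 hy).2 t ht]; group
      · rw [ht' x hx]
        have h2 := hH.comm x (h.le hx) t ht
        have h3 : x⁻¹ * (t * x * t⁻¹) = x⁻¹ * (t * x * t⁻¹ * x⁻¹) * x := by group
        rw [h3, mul_assoc, ← (mem_Z.1 h2).2 x (h.le hx), ← mul_assoc, inv_mul_cancel, one_mul]
        exact h2
    obtain ⟨γ, hγdef⟩ : ∃ γ, γ = α⁻¹ * cj P hsn * α := ⟨_, rfl⟩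
    rw [← hγdef] at hcon hγz hγ
    have hγZ : IsIso F Z Z (fn γ) := by
      have h1 := (fn_iso (F := F) h.le hγ).isMap.mono hZP
      exact H87.ConstrEq.isIso_of_self h1 hcon
    have hγp : IsPGroup p (Subgroup.zpowers γ) := by
      have h1 := isPGroup_autInducedBy (P := P) hS
      obtain ⟨k, hk⟩ := orderOf_pow_of_isPGroup h1 hc
      rw [IsPGroup.iff_card]
      refine ⟨k, ?_⟩
      rw [Nat.card_zpowers, hγdef]
      have h2 := orderOf_conj' α⁻¹ (cj P hsn)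
      rw [inv_inv] at h2
      rw [h2, hk]
    have hnormN1 : Subgroup.zpowers γ ≤ Subgroup.normalizer (N1 : Set (MulAut P)) := by
      rw [Subgroup.zpowers_le]
      have : Finite N1 := inferInstance
      refine mem_normalizer_iff_of_finite.2 fun κ hκ => ?_
      obtain ⟨⟨κ1, κ2⟩, κ3⟩ := hκ
      have hγi : ∀ x ∈ Z, fn γ⁻¹ x ∈ Z := by
        intro x hx
        obtain ⟨y, hy, rfl⟩ := hγZ.surj hx
        rw [fn_inv_apply γ (hZP hy)]; exact hy
      refine ⟨⟨fun x hx => ?_, fun x hx => ?_⟩, Subgroup.mul_mem _ (Subgroup.mul_mem _ hγ κ3) (Subgroup.inv_mem _ hγ)⟩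
      · rw [fn_mul _ _ (hZP hx), fn_mul _ _ (fn_mem _ (hZP hx)), κ1 _ (hγi x hx), fn_apply_inv γ (hZP hx)]
      · rw [fn_mul _ _ hx, fn_mul _ _ (fn_mem _ hx)]
        have h1 := κ2 _ (fn_mem γ⁻¹ hx)
        have h2 : fn κ (fn γ⁻¹ x) = fn γ⁻¹ x * ((fn γ⁻¹ x)⁻¹ * fn κ (fn γ⁻¹ x)) := by group
        rw [h2, fn_map_mul γ (fn_mem _ hx) (hZP h1), fn_apply_inv γ hx, ← mul_assoc, inv_mul_cancel, one_mul]
        exact hcon _ h1
    have hsup : IsPGroup p (Subgroup.zpowers γ ⊔ N1 : Subgroup (MulAut P)) :=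
      IsPGroup.to_sup_of_normal_right' hγp hN1p hnormN1
    have hle : (Subgroup.zpowers γ ⊔ N1 : Subgroup (MulAut P)) ≤ F.autGroup P :=
      sup_le (Subgroup.zpowers_le.2 hγ) inf_le_right
    have heq := (h.syl hS hF hH).max _ hle hsup (hSN.trans le_sup_right)
    have hγS : γ ∈ autInducedBy S P := by
      rw [← heq]
      exact Subgroup.mem_sup_left (Subgroup.mem_zpowers γ)
    obtain ⟨t, ht, ht'⟩ := fn_autInduced hγS
    have h1 := ht' z (hZP hz)
    rw [(mem_Z.1 hz).2 t ht, mul_inv_cancel_right, hγz] at h1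
    exact hw₀1 (mul_eq_left.1 h1)
  -- the intersection grows
  have hlt : Nat.card ↥(Z ⊓ img Z (fn α)) < Nat.card ↥(Z ⊓ img Z (fn (α⁻¹ * cj P hsn * α))) := by
    have hZS : Z ≤ S := centralizerIn_le
    have hm : IsMap F (Z ⊓ img Z (fn α)) (fn α⁻¹) := hαi'.isMap.mono (inf_le_left.trans hZP)
    have hcard := hm.isIso.card_eq
    rw [hcard]
    have hfW : Finite ↥(Z ⊓ img Z (fn (α⁻¹ * cj P hsn * α))) := finite_of_le (inf_le_left.trans hZS)
    have hZα : IsMap F Z (fn α) := hαi.isMap.mono hZP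
    have hZγ : IsMap F Z (fn (α⁻¹ * cj P hsn * α)) := (fn_iso (F := F) h.le hγ).isMap.mono hZP
    have hlt' : img (Z ⊓ img Z (fn α)) (fn α⁻¹) < Z ⊓ img Z (fn (α⁻¹ * cj P hsn * α)) := by
      refine SetLike.lt_iff_le_and_exists.2 ⟨?_, z * fn α⁻¹ z₀, ⟨Z.mul_mem hz (hQ hw₀), ?_⟩, ?_⟩
      · intro y hy
        obtain ⟨x, ⟨hx1, hx2⟩, rfl⟩ := (mem_img hm).1 hy
        obtain ⟨w, hw, rfl⟩ := (mem_img hZα).1 hx2
        rw [fn_inv_apply α (hZP hw)]
        refine ⟨hw, ?_⟩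
        have h1 : fn (α⁻¹ * cj P hsn * α) w = w := by
          have h3 : s * fn α w * s⁻¹ = fn α w := by rw [(mem_Z.1 hx1).2 s hs]; group
          rw [fn_mul _ _ (hZP hw), fn_mul _ _ (fn_mem α (hZP hw)), fn_cj hsn (fn_mem α (hZP hw)), h3,
            fn_inv_apply α (hZP hw)]
        rw [← h1]
        exact apply_mem_img hw
      · rw [← hγz]
        exact apply_mem_img hz
      · intro hmem
        obtain ⟨x, ⟨hx1, hx2⟩, e⟩ := (mem_img hm).1 hmem
        have h1 := congrArg (fn α) e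
        rw [fn_apply_inv α (hZP hx1), fn_map_mul α (hZP hz) (fn_mem _ hz₀P), fn_apply_inv α hz₀P] at h1
        apply hz'
        have h2 : fn α z = x * z₀⁻¹ := by rw [h1, mul_inv_cancel_right]
        rw [h2]
        exact Z.mul_mem hx1 (Z.inv_mem (hQ hz₀))
    have h1 : Nat.card ↥(img (Z ⊓ img Z (fn α)) (fn α⁻¹)) ≤ Nat.card ↥(Z ⊓ img Z (fn (α⁻¹ * cj P hsn * α))) :=
      Nat.card_le_card_of_injective _ (Subgroup.inclusion_injective hlt'.le)
    refine lt_of_le_of_ne h1 fun e => ?_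
    exact hlt'.ne (Subgroup.eq_of_le_of_card_ge hlt'.le e.ge)
  exact absurd (hmax _ hγA) (not_le.2 hlt)

end H26.HeisFus
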