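import Cfsg.Agent.Lib.H26.HeisFus
import Cfsg.Agent.Lib.H89.ModelD
set_option autoImplicit false
set_option linter.unusedSectionVars false

open Cfsg Cfsg.FusionSystem

namespace H26.HeisFus
open H87.Base H87.Basic H87.Syl H87.Sat H87.Grow H87.Inv H87.Frat H87.Cut H87.PPow H87.Crit H87.PPr H87.NE

universe u
variable {Ω : Type u} [Group Ω] {S : Subgroup Ω} {F : FusionSystem S}
  {P Q R X Y : Subgroup Ω} {f g h a b : Ω → Ω} {p : ℕ}

theorem CR.transport [Fact p.Prime] [Finite S] (hS : IsPGroup p S) (h : CR F p P) (hg : IsIso F P Q g) : CR F p Q := by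
  refine ⟨IsCentric.conj h.cent hg.isConj, ⟨hg.le', le_antisymm ?_ (inn_le_core hS hg.le')⟩, ?_⟩
  · intro β hβ
    obtain ⟨k, hk, hk1, hk2⟩ := hg.symm
    have h1 : IsIso.congrAut hk β ∈ core F p P := core_transport hk hβ
    rw [h.core_eq] at h1
    obtain ⟨u, hu, hu'⟩ := fn_autInduced h1
    rw [← H86.FusBasic.autInducedBy_self]
    refine mem_autInduced_of_fn (g := g u) (hg.mem hu) fun y hy => ?_
    have h2 := hu' (k y) (hk.mem hy)
    rw [fn_congrAut hk β hy] at h2
    have h3 := congrArg g h2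
    rw [hk2 _ (fn_mem β hy), hg.isMap.map_conj hu (hk.mem hy), hk2 y hy] at h3
    exact h3
  · rintro rfl
    have h1 := hg.card_eq
    exact h.ne (Subgroup.eq_of_le_of_card_ge h.le h1.ge)

theorem CR.of_essential [Fact p.Prime] [Finite S] (hS : IsPGroup p S) (hF : F.IsSaturated p) (h : F.IsEssential p P) :
    CR F p P :=
  ⟨h.1, H86.FusAlperin.radical_of_essential hS h, (H57.Ess.lt_of_essential hS hF h).ne⟩

theorem constrained [Fact p.Prime] [Finite S] (hS : IsPGroup p S) (hF : F.IsSaturated p) (hH : HeisIn S)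
    (hcore : F.core ≠ ⊥) : ∃ Q, F.IsNormal Q ∧ F.IsCentric Q := by
  have hQn := isNormal_core F
  have hQsc := H89.Normal.stronglyClosed_of_isNormal hQn
  have huniq : ∀ P₁ P₂, CR F p P₁ → CR F p P₂ → P₁ = P₂ := by
    intro P₁ P₂ h1 h2
    by_contra hne
    have h3 := H89.Normal.isNormal_le_of_radical hS hQn h1.cent h1.rad
    have h4 := H89.Normal.isNormal_le_of_radical hS hQn h2.cent h2.rad
    have h5 : F.core ≤ centralizerIn S S := (le_inf h3 h4).trans (h1.unique hS hH h2 hne)
    refine hcore (h1.no_inv hS hF hH h5 fun α hα x hx => ?_)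
    have h6 := H89.Normal.stronglyClosed_apply_mem hQsc ((H86.FusBasic.mem_autGroup F h1.le).1 hα)
      (x := ⟨x, h3 hx⟩) hx
    rw [fn_apply α (h3 hx)]
    exact h6
  by_cases hex : ∃ P, CR F p P
  · obtain ⟨P, hP⟩ := hex
    refine ⟨P, H89.Normal.isNormal_of_essential hS hF fun R hR => ?_, hP.cent⟩
    rcases hR with rfl | hR
    · refine ⟨hP.le, fun α hα x hx => ?_⟩
      have h1 := (fn_iso (F := F) le_rfl hα).isMap
      have h2 : IsIso F P (img P (fn α)) (fn α) := (h1.mono hP.le).isIso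
      have h3 := huniq _ _ hP (hP.transport hS h2)
      have h4 : fn α x ∈ img P (fn α) := apply_mem_img hx
      rw [← h3, fn_apply α x.2] at h4
      exact h4
    · have h1 := huniq _ _ (CR.of_essential hS hF hR) hP
      subst h1
      exact ⟨le_rfl, fun α hα x hx => (α x).2⟩
  · refine ⟨S, H89.Normal.isNormal_of_essential hS hF fun R hR => ?_, ?_⟩
    · rcases hR with rfl | hR
      · exact ⟨le_rfl, fun α hα x hx => (α x).2⟩
      · exact absurd ⟨R, CR.of_essential hS hF hR⟩ hex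
    · refine ⟨le_rfl, fun Q hQ => ?_⟩
      have h1 := conj_card hQ
      have h2 : Q = S := Subgroup.eq_of_le_of_card_ge (isConj_le hQ).2 h1.le
      rw [h2]; exact centralizerIn_le

theorem realizable [Fact p.Prime] [Finite S] (hS : IsPGroup p S) (hF : F.IsSaturated p) (hH : HeisIn S)
    (hcore : F.core ≠ ⊥) : F.IsRealizable p := by
  obtain ⟨Q, hQn, hQc⟩ := constrained hS hF hH hcore
  obtain ⟨G, _, ι, hM⟩ := H89.ModelA.exists_model hS hF hQn hQc
  exact ⟨G, _, hM.1, ι, hM.2.1, hM.2.2.1⟩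

end H26.HeisFus
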