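import Cfsg.Agent.Lib.H26.HeisFus
import Cfsg.Agent.Lib.H57.FusSL
set_option autoImplicit false
set_option linter.unusedSectionVars false

open Cfsg Cfsg.FusionSystem Matrix

namespace H26.HeisFus

variable {Ω : Type*} [Group Ω] {S : Subgroup Ω} {K : Type*} [Field K]

/-- Heisenberg coordinates -/
structure Coord (G : Type*) [Group G] (K : Type*) [Field K] where
  a : G → K
  b : G → K
  c : G → K
  a_mul : ∀ x y, a (x * y) = a x + a y
  b_mul : ∀ x y, b (x * y) = b x + b y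
  c_mul : ∀ x y, c (x * y) = c x + c y + a x * b y
  inj : ∀ x y, a x = a y → b x = b y → c x = c y → x = y
  surj : ∀ u v w, ∃ x, a x = u ∧ b x = v ∧ c x = w

namespace Coord
variable {G : Type*} [Group G] (C : Coord G K)

theorem a_one : C.a 1 = 0 := by
  have := C.a_mul 1 1
  rw [mul_one] at this
  exact left_eq_add.1 this

theorem b_one : C.b 1 = 0 := by
  have := C.b_mul 1 1
  rw [mul_one] at this
  exact left_eq_add.1 this

theorem a_inv (x : G) : C.a x⁻¹ = - C.a x := by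
  have := C.a_mul x⁻¹ x
  rw [inv_mul_cancel, C.a_one] at this
  exact (neg_eq_of_add_eq_zero_left this.symm).symm

theorem b_inv (x : G) : C.b x⁻¹ = - C.b x := by
  have := C.b_mul x⁻¹ x
  rw [inv_mul_cancel, C.b_one] at this
  exact (neg_eq_of_add_eq_zero_left this.symm).symm

theorem comm_iff (x y : G) : x * y = y * x ↔ C.a x * C.b y = C.a y * C.b x := by
  constructor
  · intro h
    have h1 := congrArg C.c h
    rw [C.c_mul, C.c_mul] at h1
    linear_combination h1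
  · intro h
    refine C.inj _ _ ?_ ?_ ?_
    · rw [C.a_mul, C.a_mul, add_comm]
    · rw [C.b_mul, C.b_mul, add_comm]
    · rw [C.c_mul, C.c_mul]; linear_combination h

theorem central_iff (x : G) : (∀ y, y * x = x * y) ↔ C.a x = 0 ∧ C.b x = 0 := by
  constructor
  · intro h
    obtain ⟨y, hy1, hy2, -⟩ := C.surj 1 0 0
    obtain ⟨z, hz1, hz2, -⟩ := C.surj 0 1 0
    have h1 := (C.comm_iff _ _).1 (h y)
    have h2 := (C.comm_iff _ _).1 (h z)
    rw [hy1, hy2] at h1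
    rw [hz1, hz2] at h2
    constructor
    · linear_combination -h2
    · linear_combination h1
  · rintro ⟨h1, h2⟩ y
    rw [C.comm_iff, h1, h2]; ring

/-- transport -/
def comp {H : Type*} [Group H] (e : H ≃* G) : Coord H K where
  a := fun x => C.a (e x)
  b := fun x => C.b (e x)
  c := fun x => C.c (e x)
  a_mul := fun x y => by rw [map_mul, C.a_mul]
  b_mul := fun x y => by rw [map_mul, C.b_mul]
  c_mul := fun x y => by rw [map_mul, C.c_mul]
  inj := fun x y h1 h2 h3 => e.injective (C.inj _ _ h1 h2 h3)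
  surj := fun u v w => by
    obtain ⟨x, hx⟩ := C.surj u v w
    exact ⟨e.symm x, by rwa [e.apply_symm_apply]⟩

end Coord

theorem Coord.mem_Z (C : Coord S K) {x : Ω} (hx : x ∈ S) :
    x ∈ centralizerIn S S ↔ C.a ⟨x, hx⟩ = 0 ∧ C.b ⟨x, hx⟩ = 0 := by
  rw [← C.central_iff, HeisFus.mem_Z]
  constructor
  · intro h y
    exact Subtype.ext (h.2 y y.2)
  · intro h
    exact ⟨hx, fun y hy => congrArg Subtype.val (h ⟨y, hy⟩)⟩

theorem Coord.heisIn (C : Coord S K) : HeisIn S := by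
  have hcm : ∀ {x y : Ω} (hx : x ∈ S) (hy : y ∈ S), x * y = y * x ↔
      C.a ⟨x, hx⟩ * C.b ⟨y, hy⟩ = C.a ⟨y, hy⟩ * C.b ⟨x, hx⟩ := by
    intro x y hx hy
    rw [← C.comm_iff]
    exact ⟨fun h => Subtype.ext h, fun h => congrArg Subtype.val h⟩
  refine ⟨fun x hx s hs => ?_, fun x hx hxZ y hy z hz h1 h2 => ?_, fun x hx hxZ z hz => ?_⟩
  · have h := S.mul_mem (S.mul_mem (S.mul_mem hs hx) (S.inv_mem hs)) (S.inv_mem hx)
    rw [C.mem_Z h]
    have h1 : (⟨s * x * s⁻¹ * x⁻¹, h⟩ : S) = ⟨s, hs⟩ * ⟨x, hx⟩ * (⟨s, hs⟩ : S)⁻¹ * (⟨x, hx⟩ : S)⁻¹ := rfl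
    rw [h1]
    constructor
    · rw [C.a_mul, C.a_mul, C.a_mul, C.a_inv, C.a_inv]; ring
    · rw [C.b_mul, C.b_mul, C.b_mul, C.b_inv, C.b_inv]; ring
  · rw [hcm hx hy] at h1
    rw [hcm hx hz] at h2
    rw [hcm hy hz]
    rw [C.mem_Z hx, not_and_or] at hxZ
    rcases hxZ with h0 | h0
    · apply mul_left_cancel₀ h0
      linear_combination (C.a ⟨y, hy⟩) * h2 - (C.a ⟨z, hz⟩) * h1
    · apply mul_left_cancel₀ h0
      linear_combination (C.b ⟨y, hy⟩) * h2 - (C.b ⟨z, hz⟩) * h1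
  · have hzS : z ∈ S := hz.1
    have hz' := (C.mem_Z hzS).1 hz
    have hxZ' := hxZ
    rw [C.mem_Z hx, not_and_or] at hxZ
    obtain ⟨s, hs⟩ : ∃ s : S, C.a s * C.b ⟨x, hx⟩ - C.a ⟨x, hx⟩ * C.b s = C.c ⟨z, hzS⟩ := by
      rcases hxZ with h0 | h0
      · obtain ⟨s, h1, h2, -⟩ := C.surj 0 (- C.c ⟨z, hzS⟩ / C.a ⟨x, hx⟩) 0
        refine ⟨s, ?_⟩
        rw [h1, h2]; field_simp; ring
      · obtain ⟨s, h1, h2, -⟩ := C.surj (C.c ⟨z, hzS⟩ / C.b ⟨x, hx⟩) 0 0
        refine ⟨s, ?_⟩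
        rw [h1, h2]; field_simp; ring
    refine ⟨s, s.2, ?_⟩
    rw [mul_inv_eq_iff_eq_mul]
    have h3 : s * (⟨x, hx⟩ : S) = ⟨x, hx⟩ * ⟨z, hzS⟩ * s := by
      refine C.inj _ _ ?_ ?_ ?_
      · rw [C.a_mul, C.a_mul, C.a_mul, hz'.1]; ring
      · rw [C.b_mul, C.b_mul, C.b_mul, hz'.2]; ring
      · rw [C.c_mul, C.c_mul, C.c_mul, C.a_mul, hz'.1, hz'.2]
        linear_combination hs
    exact congrArg Subtype.val h3

section SL
open H57.FusSL
variable [Finite K]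

theorem mem_S0_iff {g : SpecialLinearGroup (Fin 3) K} : g ∈ S0 3 K ↔
    (g.1 0 0 = 1 ∧ g.1 1 1 = 1 ∧ g.1 2 2 = 1 ∧ g.1 1 0 = 0 ∧ g.1 2 0 = 0 ∧ g.1 2 1 = 0) := by
  rw [mem_S0]
  have key : PS g ↔ ∀ j i : Fin 3, j.1 ≤ i.1 → g.1 i j - (if i = j then 1 else 0) = 0 := by
    refine forall_congr' fun j => forall_congr' fun i => ?_
    refine imp_congr_right fun _ => ?_
    rw [Pi.sub_apply, e_apply]
    have h1 : (g.1 *ᵥ (e j : Fin 3 → K)) i = g.1 i j := by
      rw [H57.FusSL.e, Matrix.mulVec_single_one]; rfl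
    rw [h1]
  rw [key]
  constructor
  · intro h
    have h00 := h 0 0 (by decide)
    have h11 := h 1 1 (by decide)
    have h22 := h 2 2 (by decide)
    have h10 := h 0 1 (by decide)
    have h20 := h 0 2 (by decide)
    have h21 := h 1 2 (by decide)
    simp only [Fin.isValue, if_pos, sub_eq_zero] at h00 h11 h22 
    simp at h10 h20 h21
    exact ⟨h00, h11, h22, h10, h20, h21⟩
  · rintro ⟨h00, h11, h22, h10, h20, h21⟩ j i hij
    fin_cases j <;> fin_cases i <;> simp_all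

/-- coordinates on the unitriangular group -/
def slCoord : Coord (S0 3 K) K where
  a := fun g => g.1.1 0 1
  b := fun g => g.1.1 1 2
  c := fun g => g.1.1 0 2
  a_mul := fun x y => by
    have hx := mem_S0_iff.1 x.2
    have hy := mem_S0_iff.1 y.2
    show ((x.1.1 * y.1.1) 0 1 : K) = _
    rw [Matrix.mul_apply, Fin.sum_univ_three, hx.1, hy.2.1, hy.2.2.2.2.2]; ring
  b_mul := fun x y => by
    have hx := mem_S0_iff.1 x.2
    have hy := mem_S0_iff.1 y.2
    show ((x.1.1 * y.1.1) 1 2 : K) = _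
    rw [Matrix.mul_apply, Fin.sum_univ_three, hx.2.2.2.1, hx.2.1, hy.2.2.1]; ring
  c_mul := fun x y => by
    have hx := mem_S0_iff.1 x.2
    have hy := mem_S0_iff.1 y.2
    show ((x.1.1 * y.1.1) 0 2 : K) = _
    rw [Matrix.mul_apply, Fin.sum_univ_three, hx.1, hy.2.2.1]; ring
  inj := fun x y h1 h2 h3 => by
    obtain ⟨x0, x1, x2, x3, x4, x5⟩ := mem_S0_iff.1 x.2
    obtain ⟨y0, y1, y2, y3, y4, y5⟩ := mem_S0_iff.1 y.2
    apply Subtype.ext
    apply Subtype.ext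
    ext i j
    fin_cases i <;> fin_cases j <;> simp_all
  surj := fun u v w => by
    have hd : Matrix.det (!![1, u, w; 0, 1, v; 0, 0, 1] : Matrix (Fin 3) (Fin 3) K) = 1 := by
      rw [Matrix.det_fin_three]; simp
    exact ⟨⟨⟨!![1, u, w; 0, 1, v; 0, 0, 1], hd⟩, mem_S0_iff.2 ⟨rfl, rfl, rfl, rfl, rfl, rfl⟩⟩, rfl, rfl, rfl⟩

theorem heisIn_SL3 {p : ℕ} [Fact p.Prime] [CharP K p] (T : Sylow p (SpecialLinearGroup (Fin 3) K))
    (e : S ≃* (T : Subgroup (SpecialLinearGroup (Fin 3) K))) : HeisIn S := by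
  obtain ⟨T₀, hT₀⟩ := exists_sylow (n := 3) (K := K) p
  have e2 : (T : Subgroup (SpecialLinearGroup (Fin 3) K)) ≃* S0 3 K :=
    (Sylow.equiv T T₀).trans (MulEquiv.subgroupCongr hT₀)
  exact (slCoord.comp (e.trans e2)).heisIn

end SL
end H26.HeisFus
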