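import Cfsg.Agent.Lib.H89.MX0

/-!
S5316, piece Q: automorphisms of `N_S(E)` in the fusion system preserve `γ_{n-3}(S)`.
-/

set_option autoImplicit false

open Subgroup Cfsg Cfsg.FusionSystem H67.HallPetrescu H57.Mc H89.MX

namespace H26.MXQ

variable {Ω : Type*} [Group Ω] {S : Subgroup Ω} [Finite S] {p n : ℕ} [hp : Fact p.Prime] {F : FusionSystem S}
  {E : Subgroup Ω}

omit [Finite S] hp in
theorem card_rel {G : Type*} [Group G] {A B : Subgroup G} (h : A ≤ B) :
    Nat.card A * A.relIndex B = Nat.card B := by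
  have h1 := Subgroup.card_mul_index (A.subgroupOf B)
  rw [Nat.card_congr (Subgroup.subgroupOfEquivOfLe h).toEquiv] at h1
  exact h1

theorem rel_of_card {G : Type*} [Group G] {A B : Subgroup G} (h : A ≤ B) {a : ℕ}
    (ha : Nat.card A = p ^ a) (hb : Nat.card B = p ^ (a + 1)) : A.relIndex B = p := by
  have h1 := card_rel h
  rw [ha, hb, pow_succ] at h1
  exact Nat.eq_of_mul_eq_mul_left (pow_pos hp.out.pos _) h1

theorem le_rel {G : Type*} [Group G] {A B D : Subgroup G} (hi : A.relIndex B = p) (hAB : A ≤ B)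
    (hAD : A ≤ D) {y : G} (hyB : y ∈ B) (hyA : y ∉ A) (hyD : y ∈ D) : B ≤ D := by
  have h1 : A ≤ B ⊓ D := le_inf hAB hAD
  have h2 := Subgroup.relIndex_mul_relIndex A (B ⊓ D) B h1 inf_le_left
  rw [hi] at h2
  rcases (Nat.dvd_prime hp.out).1 (Dvd.intro _ h2) with h3 | h3
  · exfalso
    rw [Subgroup.relIndex_eq_one] at h3
    exact hyA (h3 ⟨hyB, hyD⟩)
  · have h4 : (B ⊓ D).relIndex B = 1 := by
      rw [h3] at h2
      exact Nat.eq_of_mul_eq_mul_left hp.out.pos (by rw [h2, mul_one])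
    rw [Subgroup.relIndex_eq_one] at h4
    exact h4.trans inf_le_right

theorem eq_of_card {G : Type*} [Group G] {A B : Subgroup G} (hf : Finite B) (h : A ≤ B)
    (hc : Nat.card A = Nat.card B) : A = B :=
  Subgroup.eq_of_le_of_card_ge h hc.ge

/-- `γ_{n-3}(S)` is abelian -/
theorem K3_comm (h : MC p n ↥S) (hn : 5 ≤ n) :
    ∀ x ∈ K S (n - 3), ∀ y ∈ K S (n - 3), x * y = y * x := by
  have key : ∀ x ∈ lcsF ↥S (n - 3), ∀ y ∈ lcsF ↥S (n - 3), x * y = y * x := by
    have hz : ∀ x ∈ lcsF ↥S (n - 2), ∀ y ∈ lcsF ↥S (n - 3), x * y = y * x := by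
      intro x hx y hy
      have h1 := comm_memK hx hy
      rw [h.K_n (by omega) (by omega), Subgroup.mem_bot] at h1
      exact commutatorElement_eq_one_iff_mul_comm.1 h1
    have e1 : n - 3 + 1 = n - 2 := by omega
    intro x hx
    by_cases hx2 : x ∈ lcsF ↥S (n - 2)
    · exact hz x hx2
    · have h1 : lcsF ↥S (n - 3) ≤ Subgroup.centralizer ({x} : Set ↥S) := by
        apply h.le_of (i := n - 3) (by omega) (by omega) (y := x)
        · rw [e1]
          intro z hz'
          rw [Subgroup.mem_centralizer_singleton_iff]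
          exact hz z hz' x hx
        · exact hx
        · rw [e1]; exact hx2
        · rw [Subgroup.mem_centralizer_singleton_iff]
      intro y hy
      have := Subgroup.mem_centralizer_singleton_iff.1 (h1 hy)
      exact this.symm
  rintro _ ⟨x, hx, rfl⟩ _ ⟨y, hy, rfl⟩
  have := key x hx y hy
  exact congrArg Subtype.val this

theorem K_conj {i : ℕ} {g x : Ω} (hg : g ∈ S) (hx : x ∈ K S i) : g * x * g⁻¹ ∈ K S i := by
  obtain ⟨y, hy, rfl⟩ := hx
  exact ⟨⟨g, hg⟩ * y * ⟨g, hg⟩⁻¹, (inferInstance : (lcsF ↥S i).Normal).conj_mem y hy ⟨g, hg⟩, rfl⟩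

theorem K_le {i : ℕ} : K S i ≤ S := by
  rintro _ ⟨y, -, rfl⟩
  exact y.2

omit [Finite S] in
theorem card_K (h : MC p n ↥S) {i : ℕ} (hi : 2 ≤ i) (hin : i ≤ n) : Nat.card (K S i) = p ^ (n - i) := by
  rw [K, Subgroup.card_map_of_injective S.subtype_injective, h.cardK i hi hin]

/-- the orbit argument -/
theorem orbit (hSp : IsPGroup p ↥S) {N E L Q : Subgroup Ω} (hNS : N ≤ S) (hEN : E ≤ N) (hLN : L ≤ N)
    (cN : Nat.card N = p ^ 4) (cE : Nat.card E = p ^ 3) (cL : Nat.card L = p ^ 3)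
    (hLn : ∀ g ∈ S, ∀ x ∈ L, g * x * g⁻¹ ∈ L)
    (hEab : ∀ x ∈ E, ∀ y ∈ E, x * y = y * x) (hLab : ∀ x ∈ L, ∀ y ∈ L, x * y = y * x) (hEL : E ≠ L)
    (hCE : ∀ g ∈ S, (∀ x ∈ E, x * g = g * x) → g ∈ E)
    (hNE : ∀ g ∈ S, (∀ x ∈ E, g * x * g⁻¹ ∈ E) → g ∈ N)
    {m : Ω} (hmS : m ∈ S) (hmN : m ∉ N) (hm : ∀ x ∈ N, m * x * m⁻¹ ∈ N)
    (hQN : Q ≤ N) (cQ : Nat.card Q = p ^ 3) (hQL : Q ≠ L)
    (hQ : ∀ z ∈ N, (∀ x ∈ N, z * x = x * z) → z ∈ Q) :
    ∃ g ∈ S, (∀ x ∈ E, g * x * g⁻¹ ∈ Q) := by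
  have hfin : ∀ A : Subgroup Ω, A ≤ S → Finite A := fun A hA =>
    Finite.of_injective (Subgroup.inclusion hA) (Subgroup.inclusion_injective hA)
  have hES := hEN.trans hNS
  have hLS := hLN.trans hNS
  have hQS := hQN.trans hNS
  have relEN : E.relIndex N = p := rel_of_card (a := 3) hEN cE cN
  have relLN : L.relIndex N = p := rel_of_card (a := 3) hLN cL cN
  have hp1 := hp.out.one_lt
  obtain ⟨y, hyL, hyE⟩ : ∃ y ∈ L, y ∉ E := by
    by_contra hcon
    push Not at hcon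
    exact hEL (eq_of_card (hfin E hES) hcon (cL.trans cE.symm)).symm
  -- not everything centralizes E
  have hnab : ¬ N ≤ Subgroup.centralizer (E : Set Ω) := by
    intro hle
    have h1 : N ≤ E := fun g hg => hCE g (hNS hg) (fun x hx => (Subgroup.mem_centralizer_iff.1 (hle hg)) x hx)
    have hfE := hfin E hES
    have h2 := Subgroup.card_le_of_le h1
    rw [cN, cE] at h2
    exact absurd h2 (not_le.2 (Nat.pow_lt_pow_right hp1 (by norm_num)))
  have hZc : ∀ z, z ∈ E ⊓ L ↔ z ∈ N ∧ ∀ x ∈ N, z * x = x * z := by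
    intro z
    constructor
    · rintro ⟨hzE, hzL⟩
      refine ⟨hEN hzE, ?_⟩
      have h1 : N ≤ Subgroup.centralizer ({z} : Set Ω) := by
        apply le_rel relEN hEN _ (hLN hyL) hyE
        · rw [Subgroup.mem_centralizer_singleton_iff]; exact hLab y hyL z hzL
        · intro x hx; rw [Subgroup.mem_centralizer_singleton_iff]; exact hEab x hx z hzE
      intro x hx
      exact (Subgroup.mem_centralizer_singleton_iff.1 (h1 hx)).symm
    · rintro ⟨hzN, hz⟩
      have hzE : z ∈ E := hCE z (hNS hzN) (fun x hx => (hz x (hEN hx)).symm)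
      refine ⟨hzE, ?_⟩
      by_contra hzL
      have h1 : N ≤ Subgroup.centralizer (L : Set Ω) := by
        apply le_rel relLN hLN _ hzN hzL
        · rw [Subgroup.mem_centralizer_iff]; intro x hx; exact (hz x (hLN hx)).symm
        · intro x hx; rw [Subgroup.mem_centralizer_iff]; intro w hw; exact hLab w hw x hx
      apply hnab
      apply le_rel relEN hEN _ (hLN hyL) hyE
      · rw [Subgroup.mem_centralizer_iff]; intro x hx
        exact ((Subgroup.mem_centralizer_iff.1 (h1 (hEN hx))) y hyL).symm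
      · intro x hx; rw [Subgroup.mem_centralizer_iff]; intro w hw; exact hEab w hw x hx
  have relZL : (E ⊓ L).relIndex L = p := by
    rw [Subgroup.inf_relIndex_right]
    have h1 : E.relIndex L ≤ p := by
      have := Subgroup.relIndex_le_of_le_right (H := E) hLN (by rw [relEN]; exact hp.out.ne_zero)
      rwa [relEN] at this
    have h2 := card_rel (inf_le_right : E ⊓ L ≤ L)
    rw [Subgroup.inf_relIndex_right, cL] at h2
    obtain ⟨k, -, hk⟩ := (Nat.dvd_prime_pow hp.out).1 (Dvd.intro_left _ h2)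
    have hk0 : k ≠ 0 := by
      rintro rfl
      rw [pow_zero, Subgroup.relIndex_eq_one] at hk
      exact hyE (hk hyL)
    have hk1 : k ≤ 1 := by
      by_contra hcon
      rw [hk] at h1
      have := Nat.pow_lt_pow_right hp1 (show 1 < k by omega)
      rw [pow_one] at this
      omega
    have : k = 1 := by omega
    rw [hk, this, pow_one]
  have cZ : Nat.card (E ⊓ L : Subgroup Ω) = p ^ 2 := by
    have h2 := card_rel (inf_le_right : E ⊓ L ≤ L)
    rw [relZL, cL, pow_succ] at h2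
    exact Nat.eq_of_mul_eq_mul_right hp.out.pos h2
  have relZE : (E ⊓ L).relIndex E = p := rel_of_card (a := 2) inf_le_left cZ cE
  have relZQ : ∀ A : Subgroup Ω, E ⊓ L ≤ A → Nat.card A = p ^ 3 → (E ⊓ L).relIndex A = p :=
    fun A hA hc => rel_of_card (a := 2) hA cZ hc
  -- the normalizer of N in S
  obtain ⟨M, hM⟩ : ∃ M : Subgroup Ω, M = S ⊓ Subgroup.normalizer (N : Set Ω) := ⟨_, rfl⟩
  have hMS : M ≤ S := by rw [hM]; exact inf_le_left
  have hMN : M ≤ Subgroup.normalizer (N : Set Ω) := by rw [hM]; exact inf_le_right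
  have hfM : Finite M := hfin M hMS
  have hMp : IsPGroup p M := hSp.to_le hMS
  have hNM : N ≤ M := by rw [hM]; exact le_inf hNS Subgroup.le_normalizer
  have hfN := hfin N hNS
  have hmM : m ∈ M := by
    rw [hM]
    exact ⟨hmS, Subgroup.mem_normalizer_fintype hm⟩
  have hMZ' : ∀ g ∈ M, ∀ z ∈ E ⊓ L, g * z * g⁻¹ ∈ E ⊓ L := by
    intro g hg z hz
    rw [hZc] at hz ⊢
    have hgn := Subgroup.mem_normalizer_iff.1 (hMN hg)
    refine ⟨(hgn z).1 hz.1, fun x hx => ?_⟩
    have hx' : g⁻¹ * x * g ∈ N := by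
      apply (hgn _).2
      have : g * (g⁻¹ * x * g) * g⁻¹ = x := by group
      rwa [this]
    have := hz.2 _ hx'
    calc g * z * g⁻¹ * x = g * (z * (g⁻¹ * x * g)) * g⁻¹ := by group
      _ = g * ((g⁻¹ * x * g) * z) * g⁻¹ := by rw [this]
      _ = x * (g * z * g⁻¹) := by group
  have hMZ : M ≤ Subgroup.normalizer ((E ⊓ L : Subgroup Ω) : Set Ω) := by
    intro g hg
    have hfZ : Finite ((E ⊓ L : Subgroup Ω) : Set Ω) := hfin _ (inf_le_left.trans hES)
    exact Subgroup.mem_normalizer_fintype (hMZ' g hg)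
  have hML : M ≤ Subgroup.normalizer (L : Set Ω) := by
    intro g hg
    have hfL : Finite (L : Set Ω) := hfin _ hLS
    exact Subgroup.mem_normalizer_fintype (hLn g (hMS hg))
  -- an element q of Q outside L
  obtain ⟨q, hqQ, hqL⟩ : ∃ q ∈ Q, q ∉ L := by
    by_contra hcon
    push Not at hcon
    exact hQL (eq_of_card (hfin L hLS) hcon (cQ.trans cL.symm))
  have hqN := hQN hqQ
  -- q = e * κ
  obtain ⟨e, heE, κ, hκL, hq⟩ : ∃ e ∈ E, ∃ κ ∈ L, e * κ = q := by
    have hLnor : (L.subgroupOf N).Normal := by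
      rw [Subgroup.normal_subgroupOf_iff_le_normalizer hLN]
      exact hNM.trans hML
    have h1 : (⊤ : Subgroup N) ≤ E.subgroupOf N ⊔ L.subgroupOf N := by
      have h2 : (E.subgroupOf N).relIndex (⊤ : Subgroup N) = p := by
        rw [Subgroup.relIndex_top_right]; exact relEN
      apply le_rel h2 le_top le_sup_left (y := ⟨y, hLN hyL⟩) (Subgroup.mem_top _)
      · rw [Subgroup.mem_subgroupOf]; exact hyE
      · exact Subgroup.mem_sup_right (by rw [Subgroup.mem_subgroupOf]; exact hyL)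
    obtain ⟨a, ha, b, hb, hab⟩ := Subgroup.mem_sup_of_normal_right.1 (h1 (Subgroup.mem_top ⟨q, hqN⟩))
    exact ⟨a, Subgroup.mem_subgroupOf.1 ha, b, Subgroup.mem_subgroupOf.1 hb, congrArg Subtype.val hab⟩
  have heL : e ∉ L := fun h => hqL (by rw [← hq]; exact L.mul_mem h hκL)
  have heZ : e ∉ E ⊓ L := fun h => heL h.2
  -- k = [e, m]
  obtain ⟨k, hk⟩ : ∃ k, k = e⁻¹ * (m * e * m⁻¹) := ⟨_, rfl⟩
  have hkL : k ∈ L := by
    rw [hk]
    exact H57.Ess.comm_mem_of_relIndex hMp hLN hNM hML hMN relLN (hEN heE) hmM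
  have hkZ : k ∉ E ⊓ L := by
    intro hkZ
    apply hmN
    apply hNE m hmS
    have h1 : m * e * m⁻¹ ∈ E := by
      have : m * e * m⁻¹ = e * k := by rw [hk]; group
      rw [this]; exact E.mul_mem heE hkZ.1
    have h2 : E ≤ E.comap (MulAut.conj m).toMonoidHom := by
      apply le_rel relZE inf_le_left _ heE heZ
      · exact h1
      · intro z hz
        exact (hMZ' m hmM z hz).1
    exact fun x hx => h2 hx
  have hmk : ∃ z1 ∈ E ⊓ L, m * k * m⁻¹ = k * z1 := by
    refine ⟨k⁻¹ * (m * k * m⁻¹), ?_, by group⟩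
    exact H57.Ess.comm_mem_of_relIndex hMp inf_le_right (hLN.trans hNM) hMZ hML relZL hkL hmM
  obtain ⟨z1, hz1, hmk⟩ := hmk
  -- powers
  have hpow : ∀ i : ℕ, ∃ z ∈ E ⊓ L, m ^ i * e * (m ^ i)⁻¹ = e * k ^ i * z := by
    intro i
    induction i with
    | zero => exact ⟨1, Subgroup.one_mem _, by simp⟩
    | succ i ih =>
      obtain ⟨z, hz, hi⟩ := ih
      have hkz1 : Commute k z1 := hLab k hkL z1 hz1.2
      refine ⟨z1 ^ i * (m * z * m⁻¹), Subgroup.mul_mem _ (Subgroup.pow_mem _ hz1 i) (hMZ' m hmM z hz), ?_⟩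
      have h1 : m * k ^ i * m⁻¹ = k ^ i * z1 ^ i := by
        rw [← conj_pow, hmk, hkz1.mul_pow]
      calc m ^ (i + 1) * e * (m ^ (i + 1))⁻¹ = m * (m ^ i * e * (m ^ i)⁻¹) * m⁻¹ := by
            rw [pow_succ']; group
        _ = m * (e * k ^ i * z) * m⁻¹ := by rw [hi]
        _ = (m * e * m⁻¹) * (m * k ^ i * m⁻¹) * (m * z * m⁻¹) := by group
        _ = (e * k) * (k ^ i * z1 ^ i) * (m * z * m⁻¹) := by
            rw [h1]; congr 2; rw [hk]; group
        _ = e * k ^ (i + 1) * (z1 ^ i * (m * z * m⁻¹)) := by rw [pow_succ']; group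
  -- κ = k ^ j * z
  have hκ : ∃ i : ℕ, ∃ z ∈ E ⊓ L, κ = k ^ i * z := by
    let D1 : Subgroup Ω :=
      { carrier := {x | x ∈ L ∧ ∃ j : ℤ, k ^ j * x ∈ E ⊓ L}
        one_mem' := ⟨L.one_mem, 0, by simp [Subgroup.one_mem]⟩
        mul_mem' := by
          rintro a b ⟨ha, i, hi⟩ ⟨hb, j, hj⟩
          refine ⟨L.mul_mem ha hb, i + j, ?_⟩
          have h1 : a * k ^ j = k ^ j * a := hLab a ha _ (L.zpow_mem hkL j)
          have : k ^ (i + j) * (a * b) = (k ^ i * a) * (k ^ j * b) := by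
            rw [zpow_add]
            calc k ^ i * k ^ j * (a * b) = k ^ i * (k ^ j * a) * b := by group
              _ = k ^ i * (a * k ^ j) * b := by rw [h1]
              _ = _ := by group
          rw [this]; exact Subgroup.mul_mem _ hi hj
        inv_mem' := by
          rintro a ⟨ha, i, hi⟩
          refine ⟨L.inv_mem ha, -i, ?_⟩
          have h1 : a⁻¹ * k ^ (-i) = k ^ (-i) * a⁻¹ := hLab _ (L.inv_mem ha) _ (L.zpow_mem hkL (-i))
          rw [← h1]
          have : a⁻¹ * k ^ (-i) = (k ^ i * a)⁻¹ := by rw [mul_inv_rev, zpow_neg]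
          rw [this]; exact Subgroup.inv_mem _ hi }
    have h1 : L ≤ D1 := by
      apply le_rel relZL inf_le_right _ hkL hkZ
      · exact ⟨hkL, -1, by simp [Subgroup.one_mem]⟩
      · intro z hz
        exact ⟨hz.2, 0, by rw [zpow_zero, one_mul]; exact hz⟩
    obtain ⟨-, j, hj⟩ := h1 hκL
    have hfk : IsOfFinOrder k := by
      have hfL : Finite L := hfin L hLS
      exact MonoidHom.isOfFinOrder L.subtype (isOfFinOrder_of_finite (⟨k, hkL⟩ : L))
    obtain ⟨i, hi⟩ : k ^ (-j) ∈ Submonoid.powers k :=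
      (hfk.mem_powers_iff_mem_zpowers).2 ⟨-j, rfl⟩
    refine ⟨i, k ^ j * κ, hj, ?_⟩
    have hi' : k ^ i = k ^ (-j) := hi
    rw [hi', zpow_neg]; group
  obtain ⟨i, z, hz, hκz⟩ := hκ
  obtain ⟨z', hz', hi⟩ := hpow i
  have hmi : m ^ i ∈ M := M.pow_mem hmM i
  refine ⟨m ^ i, hMS hmi, ?_⟩
  have hqe : q = (m ^ i * e * (m ^ i)⁻¹) * (z'⁻¹ * z) := by
    rw [hi, ← hq, hκz]; group
  -- E^(m^i) ≤ Q
  have h1 : E ≤ Q.comap (MulAut.conj (m ^ i)).toMonoidHom := by
    have hZQ : ∀ w ∈ E ⊓ L, w ∈ Q := fun w hw => hQ w ((hZc w).1 hw).1 ((hZc w).1 hw).2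
    apply le_rel relZE inf_le_left _ heE heZ
    · show m ^ i * e * (m ^ i)⁻¹ ∈ Q
      have : m ^ i * e * (m ^ i)⁻¹ = q * (z'⁻¹ * z)⁻¹ := by rw [hqe]; group
      rw [this]
      exact Q.mul_mem hqQ (Q.inv_mem (hZQ _ (Subgroup.mul_mem _ (Subgroup.inv_mem _ hz') hz)))
    · intro w hw
      exact hZQ _ (hMZ' _ hmi w hw)
  exact fun x hx => h1 hx

/-- S5316, piece Q -/
theorem invK3 (D : Dat S p n F E) (hN : Nat.card (normalizerIn S E) = p ^ 4)
    (h3 : K S (n - 3) ≤ normalizer (E : Set Ω)) {γ : MulAut (normalizerIn S E)}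
    (hγ : γ ∈ F.autGroup (normalizerIn S E)) :
    ∀ x : normalizerIn S E, (x : Ω) ∈ K S (n - 3) → ((γ x : normalizerIn S E) : Ω) ∈ K S (n - 3) := by
  have hn5 := D.hn
  have hp1 := hp.out.one_lt
  have hSp : IsPGroup p ↥S := D.mc.isPGroup
  have hES : E ≤ S := D.ess.1.1
  have hNS : normalizerIn S E ≤ S := inf_le_left
  have hEN : E ≤ normalizerIn S E := le_inf hES Subgroup.le_normalizer
  have hfin : ∀ A : Subgroup Ω, A ≤ S → Finite A := fun A hA =>
    Finite.of_injective (Subgroup.inclusion hA) (Subgroup.inclusion_injective hA)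
  have hLS : K S (n - 3) ≤ S := K_le
  have hLN : K S (n - 3) ≤ normalizerIn S E := le_inf hLS h3
  have cL : Nat.card (K S (n - 3)) = p ^ 3 := by
    rw [card_K D.mc (by omega) (by omega)]; congr 1; omega
  have hNneS : normalizerIn S E ≠ S := by
    intro h
    rw [h, D.mc.card] at hN
    have := Nat.pow_right_injective hp.out.two_le hN
    omega
  have hEL : E ≠ K S (n - 3) := by
    intro h
    apply hNneS
    apply le_antisymm hNS
    refine le_inf le_rfl ?_
    intro g hg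
    have hfE : Finite (E : Set Ω) := hfin E hES
    apply Subgroup.mem_normalizer_fintype
    intro x hx
    rw [h] at hx ⊢
    exact K_conj hg hx
  have hCE : ∀ g ∈ S, (∀ x ∈ E, x * g = g * x) → g ∈ E := by
    intro g hg hx
    apply H57.Ess.centralizerIn_le_of_essential D.ess
    exact ⟨hg, Subgroup.mem_centralizer_iff.2 hx⟩
  have hNE : ∀ g ∈ S, (∀ x ∈ E, g * x * g⁻¹ ∈ E) → g ∈ normalizerIn S E := by
    intro g hg hx
    have hfE : Finite (E : Set Ω) := hfin E hES
    exact ⟨hg, Subgroup.mem_normalizer_fintype hx⟩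
  -- the element m
  obtain ⟨m, hmS, hmN, hm⟩ : ∃ m ∈ S, m ∉ normalizerIn S E ∧
      ∀ x ∈ normalizerIn S E, m * x * m⁻¹ ∈ normalizerIn S E := by
    have h1 : (normalizerIn S E).subgroupOf S ≠ ⊤ := by
      intro htop
      rw [Subgroup.subgroupOf_eq_top] at htop
      exact hNneS (le_antisymm hNS htop)
    have hnil : Group.IsNilpotent ↥S := hSp.isNilpotent
    have h2 := Group.normalizerCondition_of_isNilpotent (G := S) _ (lt_top_iff_ne_top.2 h1)
    obtain ⟨x, hx, hxn⟩ := Set.exists_of_ssubset h2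
    refine ⟨x, x.2, fun h => hxn (Subgroup.mem_subgroupOf.2 h), fun y hy => ?_⟩
    exact (Subgroup.mem_normalizer_iff.1 hx ⟨y, hNS hy⟩).1 hy
  intro x0 hx0
  by_contra hcon
  -- Q = γ⁻¹(K3)
  let Q : Subgroup Ω := (((K S (n - 3)).subgroupOf (normalizerIn S E)).map
    ((γ⁻¹ : MulAut (normalizerIn S E)) : normalizerIn S E ≃* normalizerIn S E).toMonoidHom).map
    (normalizerIn S E).subtype
  have hQmem : ∀ y : Ω, y ∈ Q ↔ ∃ h : y ∈ normalizerIn S E,
      ((γ ⟨y, h⟩ : normalizerIn S E) : Ω) ∈ K S (n - 3) := by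
    intro y
    constructor
    · rintro ⟨_, ⟨z, hz, rfl⟩, rfl⟩
      refine ⟨((γ⁻¹ : MulAut (normalizerIn S E)) z).2, ?_⟩
      have : γ ((γ⁻¹ : MulAut (normalizerIn S E)) z) = z := by
        rw [← MulAut.mul_apply, mul_inv_cancel, MulAut.one_apply]
      have h4 : γ ⟨((γ⁻¹ : MulAut (normalizerIn S E)) z : normalizerIn S E), ((γ⁻¹ : MulAut (normalizerIn S E)) z).2⟩ = z := this
      show ((γ ⟨((γ⁻¹ : MulAut (normalizerIn S E)) z : normalizerIn S E), _⟩ : normalizerIn S E) : Ω) ∈ K S (n - 3)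
      rw [h4]
      exact Subgroup.mem_subgroupOf.1 hz
    · rintro ⟨h, hy⟩
      refine ⟨⟨y, h⟩, ⟨γ ⟨y, h⟩, Subgroup.mem_subgroupOf.2 hy, ?_⟩, rfl⟩
      show (γ⁻¹ : MulAut (normalizerIn S E)) (γ ⟨y, h⟩) = ⟨y, h⟩
      rw [← MulAut.mul_apply, inv_mul_cancel, MulAut.one_apply]
  have hQN : Q ≤ normalizerIn S E := fun y hy => ((hQmem y).1 hy).1
  have cQ : Nat.card Q = p ^ 3 := by
    rw [Subgroup.card_map_of_injective (Subgroup.subtype_injective _),
      Subgroup.card_map_of_injective (MulEquiv.injective _), ← cL]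
    exact Nat.card_congr (Subgroup.subgroupOfEquivOfLe hLN).toEquiv
  have hQL : Q ≠ K S (n - 3) := by
    intro h
    have h1 : (x0 : Ω) ∈ Q := by rw [h]; exact hx0
    obtain ⟨h2, h4⟩ := (hQmem _).1 h1
    exact hcon h4
  have hQ : ∀ z ∈ normalizerIn S E, (∀ x ∈ normalizerIn S E, z * x = x * z) → z ∈ Q := by
    intro z hz hzc
    rw [hQmem]
    refine ⟨hz, ?_⟩
    -- γ z is central, hence in K3
    have hc : ∀ x : normalizerIn S E, (γ ⟨z, hz⟩) * x = x * γ ⟨z, hz⟩ := by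
      intro x
      obtain ⟨w, rfl⟩ := γ.surjective x
      rw [← map_mul, ← map_mul]
      congr 1
      exact Subtype.ext (hzc w w.2)
    have hzE : ((γ ⟨z, hz⟩ : normalizerIn S E) : Ω) ∈ E := by
      apply hCE _ (hNS (γ ⟨z, hz⟩).2)
      intro x hx
      exact (congrArg Subtype.val (hc ⟨x, hEN hx⟩)).symm
    by_contra hzL
    have relLN : (K S (n - 3)).relIndex (normalizerIn S E) = p := rel_of_card (a := 3) hLN cL hN
    have h1 : normalizerIn S E ≤ Subgroup.centralizer ((K S (n - 3) : Subgroup Ω) : Set Ω) := by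
      apply le_rel relLN hLN _ (γ ⟨z, hz⟩).2 hzL
      · rw [Subgroup.mem_centralizer_iff]; intro x hx
        exact (congrArg Subtype.val (hc ⟨x, hLN hx⟩)).symm
      · intro x hx; rw [Subgroup.mem_centralizer_iff]; intro w hw; exact K3_comm D.mc hn5 w hw x hx
    have hLE : K S (n - 3) ≤ E := by
      intro w hw
      apply hCE w (hLS hw)
      intro x hx
      exact ((Subgroup.mem_centralizer_iff.1 (h1 (hEN hx))) w hw).symm
    exact hEL (eq_of_card (hfin E hES) hLE (cL.trans D.card.symm)).symm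
  obtain ⟨g, hg, hgQ⟩ := orbit hSp hNS hEN hLN hN D.card cL (fun g hg x hx => K_conj hg hx)
    D.comm (K3_comm D.mc hn5) hEL hCE hNE hmS hmN hm hQN cQ hQL hQ
  -- E is conjugate to K3
  have hψ : (normalizerIn S E).subtype.comp γ.toMonoidHom ∈ F.Hom (normalizerIn S E) :=
    (H86.FusBasic.mem_autGroup' F hNS).1 hγ
  have hφ : conjHom E g ∈ F.Hom E := F.conj_mem hES hg
  have hφN : ∀ x : E, conjHom E g x ∈ normalizerIn S E := fun x => hQN (hgQ x x.2)
  have hcomp := F.comp_mem hφ hψ hφN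
  have hval : ∀ x : E, (((normalizerIn S E).subtype.comp γ.toMonoidHom).comp
      ((conjHom E g).codRestrict (normalizerIn S E) hφN)) x ∈ K S (n - 3) := by
    intro x
    obtain ⟨h1, h2⟩ := (hQmem _).1 (hgQ x x.2)
    exact h2
  have hconj : F.IsConj E (K S (n - 3)) := by
    refine ⟨_, hcomp, ?_⟩
    apply eq_of_card (hfin _ hLS)
    · rintro _ ⟨x, rfl⟩
      exact hval x
    · rw [cL, ← D.card]
      exact (Nat.card_congr (MonoidHom.ofInjective (F.injective_of_mem hcomp)).toEquiv).symm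
  have h1 := D.ess.2.1.2 _ hconj
  have h2 : normalizerIn S (K S (n - 3)) = S := by
    apply le_antisymm inf_le_left
    refine le_inf le_rfl ?_
    intro a ha
    have hfL : Finite (K S (n - 3) : Set Ω) := hfin _ hLS
    apply Subgroup.mem_normalizer_fintype
    intro x hx
    exact K_conj ha hx
  rw [h2, hN, D.mc.card] at h1
  have := (Nat.pow_le_pow_iff_right hp1).1 h1
  omega

end H26.MXQ
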