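import Cfsg.Agent.Lib.H26.MXQ

/-!
S5316, piece S1b.
-/

set_option autoImplicit false

open Subgroup Cfsg Cfsg.FusionSystem H67.HallPetrescu H57.Mc H89.MX

namespace H26.MXS1b

open H26.MXQ

variable {Ω : Type*} [Group Ω] {S : Subgroup Ω} [Finite S] {p n : ℕ} [hp : Fact p.Prime] {F : FusionSystem S}
  {E : Subgroup Ω}

theorem mem_K {i : ℕ} {x : Ω} : x ∈ K S i ↔ ∃ h : x ∈ S, (⟨x, h⟩ : ↥S) ∈ lcsF ↥S i := by
  constructor
  · rintro ⟨y, hy, rfl⟩
    exact ⟨y.2, hy⟩
  · rintro ⟨h, hx⟩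
    exact ⟨⟨x, h⟩, hx, rfl⟩

theorem mem_T {i : ℕ} {x : Ω} : x ∈ T S i ↔ ∃ h : x ∈ S, (⟨x, h⟩ : ↥S) ∈ TC ↥S i := by
  constructor
  · rintro ⟨y, hy, rfl⟩
    exact ⟨y.2, hy⟩
  · rintro ⟨h, hx⟩
    exact ⟨⟨x, h⟩, hx, rfl⟩

theorem K_mono {i j : ℕ} (h : i ≤ j) : K S j ≤ K S i := Subgroup.map_mono (K_anti h)

theorem s1b (D : Dat S p n F E) (hN : Nat.card (normalizerIn S E) = p ^ 4) (h2 : ¬ K S (n - 2) ≤ E)
    (hE1 : E ≤ T S 2) {y : Ω} (hy : y ∈ E) (hy' : y ∉ T S (n - 2)) (h6 : 6 ≤ n) :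
    K S (n - 1) ≤ E ∧ K S (n - 3) ≤ normalizer (E : Set Ω) ∧ E ⊓ K S 2 ≤ K S (n - 3) ∧
      Nat.card (E ⊓ K S (n - 3) : Subgroup Ω) = p ^ 2 ∧
      ∀ g ∈ S, g ∈ normalizer (E : Set Ω) → ∀ z ∈ E ⊓ K S (n - 3), g * z = z * g := by
  have hp1 := hp.out.one_lt
  have hES : E ≤ S := D.ess.1.1
  have hNS : normalizerIn S E ≤ S := inf_le_left
  have hEN : E ≤ normalizerIn S E := le_inf hES Subgroup.le_normalizer
  have hfin : ∀ A : Subgroup Ω, A ≤ S → Finite A := fun A hA =>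
    Finite.of_injective (Subgroup.inclusion hA) (Subgroup.inclusion_injective hA)
  have hL S' : K S S' ≤ S := K_le
  have hCE : ∀ g ∈ S, (∀ x ∈ E, x * g = g * x) → g ∈ E := by
    intro g hg hx
    apply H57.Ess.centralizerIn_le_of_essential D.ess
    exact ⟨hg, Subgroup.mem_centralizer_iff.2 hx⟩
  -- (1)
  have c1 : K S (n - 1) ≤ E := by
    intro x hx
    obtain ⟨hxS, hx'⟩ := mem_K.1 hx
    apply hCE x hxS
    intro e he
    exact congrArg Subtype.val (D.mc.central (by omega) hx' ⟨e, hES he⟩)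
  -- (2)
  have c2 : K S (n - 3) ≤ normalizer (E : Set Ω) := by
    intro x hx
    obtain ⟨hxS, hx'⟩ := mem_K.1 hx
    have hfE : Finite (E : Set Ω) := hfin E hES
    apply Subgroup.mem_normalizer_fintype
    intro e he
    obtain ⟨heS, he'⟩ := mem_T.1 (hE1 he)
    have hb := (D.mc.blackburn (by omega) (by have := D.hp; omega)).1 (n - 3) (by omega) (by omega)
    have h3 := mem_TC.1 (hb he') _ hx'
    rw [show n - 3 + 2 = n - 1 by omega] at h3
    have h4 : x * e * x⁻¹ * e⁻¹ ∈ K S (n - 1) := by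
      refine ⟨_, h3, ?_⟩
      rw [commutatorElement_def]; rfl
    have h5 : x * e * x⁻¹ = (x * e * x⁻¹ * e⁻¹) * e := by group
    rw [h5]
    exact E.mul_mem (c1 h4) he
  have hLN : K S (n - 3) ≤ normalizerIn S E := le_inf (hL _) c2
  have relEN : E.relIndex (normalizerIn S E) = p := rel_of_card (a := 3) hEN D.card hN
  have cL : Nat.card (K S (n - 3)) = p ^ 3 := by
    rw [card_K D.mc (by omega) (by omega)]; congr 1; omega
  have h23 : K S (n - 2) ≤ K S (n - 3) := K_mono (by omega)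
  obtain ⟨w, hwZ, hwE⟩ : ∃ w ∈ K S (n - 2), w ∉ E := by
    by_contra hcon
    push Not at hcon
    exact h2 hcon
  -- relIndex
  have relZL : (E ⊓ K S (n - 3)).relIndex (K S (n - 3)) = p := by
    rw [Subgroup.inf_relIndex_right]
    have h1 : E.relIndex (K S (n - 3)) ≤ p := by
      have := Subgroup.relIndex_le_of_le_right (H := E) hLN (by rw [relEN]; exact hp.out.ne_zero)
      rwa [relEN] at this
    have h2 := card_rel (inf_le_right : E ⊓ K S (n - 3) ≤ K S (n - 3))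
    rw [Subgroup.inf_relIndex_right, cL] at h2
    obtain ⟨k, -, hk⟩ := (Nat.dvd_prime_pow hp.out).1 (Dvd.intro_left _ h2)
    have hk0 : k ≠ 0 := by
      rintro rfl
      rw [pow_zero, Subgroup.relIndex_eq_one] at hk
      exact hwE (hk (h23 hwZ))
    have hk1 : k ≤ 1 := by
      by_contra hcon
      rw [hk] at h1
      have := Nat.pow_lt_pow_right hp1 (show 1 < k by omega)
      rw [pow_one] at this
      omega
    have : k = 1 := by omega
    rw [hk, this, pow_one]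
  have cZ : Nat.card (E ⊓ K S (n - 3) : Subgroup Ω) = p ^ 2 := by
    have h2 := card_rel (inf_le_right : E ⊓ K S (n - 3) ≤ K S (n - 3))
    rw [relZL, cL, pow_succ] at h2
    exact Nat.eq_of_mul_eq_mul_right hp.out.pos h2
  have relZE : (E ⊓ K S (n - 3)).relIndex E = p := rel_of_card (a := 2) inf_le_left cZ D.card
  refine ⟨c1, c2, ?_, cZ, ?_⟩
  · rintro v ⟨hvE, hv2⟩
    by_contra hv3
    have h7 : E ≤ K S 2 := by
      apply le_rel relZE inf_le_left _ hvE (fun h => hv3 h.2) hv2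
      exact inf_le_right.trans (K_mono (by omega))
    apply hy'
    obtain ⟨hyS, hy2⟩ := mem_K.1 (h7 hy)
    exact mem_T.2 ⟨hyS, K2_le_TC _ hy2⟩
  · intro g hg hgE z hz
    have h8 : normalizerIn S E ≤ Subgroup.centralizer ({z} : Set Ω) := by
      apply le_rel relEN hEN _ (hLN (h23 hwZ)) hwE
      · rw [Subgroup.mem_centralizer_singleton_iff]
        obtain ⟨hwS, hw'⟩ := mem_K.1 hwZ
        obtain ⟨hzS, hz'⟩ := mem_K.1 hz.2
        have h9 := comm_memK hw' hz'
        rw [D.mc.K_n (by omega) (by omega), Subgroup.mem_bot, commutatorElement_eq_one_iff_mul_comm] at h9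
        exact congrArg Subtype.val h9
      · intro x hx
        rw [Subgroup.mem_centralizer_singleton_iff]
        exact D.comm x hx z hz.1
    exact Subgroup.mem_centralizer_singleton_iff.1 (h8 ⟨hg, hgE⟩)

end H26.MXS1b
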