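import Mathlib
import Cfsg.Agent.Lib.H26.PcA5

/-!
Transvections on a normal elementary abelian subgroup of order 16.
-/

set_option autoImplicit false
set_option linter.unusedSectionVars false
set_option linter.style.haveILetI false
set_option linter.unusedSimpArgs false

open Subgroup

namespace H26.PcB

open H26.PcA

variable {Y : Type*} [Group Y] {V : Subgroup Y}

theorem vcomm (h2 : ∀ v ∈ V, v ^ 2 = 1) {a b : Y} (ha : a ∈ V) (hb : b ∈ V) : a * b = b * a := by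
  have := comm_of_sq h2 a ha b hb
  rw [mul_inv_eq_one, mul_inv_eq_iff_eq_mul] at this
  exact this

theorem vinv (h2 : ∀ v ∈ V, v ^ 2 = 1) {a : Y} (ha : a ∈ V) : a⁻¹ = a := by
  have := h2 a ha
  rw [pow_two] at this
  exact (eq_inv_of_mul_eq_one_left this).symm

theorem vmul (h2 : ∀ v ∈ V, v ^ 2 = 1) {a : Y} (ha : a ∈ V) : a * a = 1 := by
  have := h2 a ha
  rwa [pow_two] at this

/-- conjugation by elements congruent modulo `V` agrees on `V` -/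
theorem conj_congr (hV : V.Normal) (h2 : ∀ v ∈ V, v ^ 2 = 1) {x x' v : Y} (h : x * x'⁻¹ ∈ V) (hv : v ∈ V) :
    x * v * x⁻¹ = x' * v * x'⁻¹ := by
  have h1 := vcomm h2 h (hV.conj_mem v hv x')
  calc x * v * x⁻¹ = ((x * x'⁻¹) * (x' * v * x'⁻¹)) * (x * x'⁻¹)⁻¹ := by group
    _ = ((x' * v * x'⁻¹) * (x * x'⁻¹)) * (x * x'⁻¹)⁻¹ := by rw [h1]
    _ = _ := by group

theorem tr [Finite Y] (hV : V.Normal) (h2 : ∀ v ∈ V, v ^ 2 = 1) (h16 : Nat.card V = 16) {x e : Y}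
    (hx2 : x ^ 2 ∈ V) (he : e ^ 3 = 1) (hxe : x * e * x⁻¹ * e⁻¹ ∈ V)
    (hF : Nat.card (V ⊓ centralizer {e} : Subgroup Y) = 4) (hxV : ∃ v ∈ V, x * v * x⁻¹ ≠ v) :
    ∃ u ∈ V, u ≠ 1 ∧ (∀ v ∈ V, x * v * x⁻¹ * v⁻¹ = 1 ∨ x * v * x⁻¹ * v⁻¹ = u) ∧ (x ^ 2 = 1 ∨ x ^ 2 = u) := by
  have hvc : ∀ {a b : Y}, a ∈ V → b ∈ V → a * b = b * a := fun ha hb => vcomm h2 ha hb
  have hvi : ∀ {a : Y}, a ∈ V → a⁻¹ = a := fun ha => vinv h2 ha
  have hvm : ∀ {a : Y}, a ∈ V → a * a = 1 := fun ha => vmul h2 ha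
  have hcj : ∀ {a : Y} (g : Y), a ∈ V → g * a * g⁻¹ ∈ V := fun g ha => hV.conj_mem _ ha g
  have he3 : e * e * e = 1 := by rw [← he, pow_succ, pow_two]
  set F := V ⊓ centralizer {e} with hFdef
  have hFmem : ∀ f, f ∈ F ↔ f ∈ V ∧ e * f * e⁻¹ = f := by
    intro f
    rw [hFdef, mem_inf, mem_centralizer_singleton_iff, mul_inv_eq_iff_eq_mul]
    exact and_congr_right fun _ => eq_comm
  -- the trace
  let tc : Y → Y := fun v => v * (e * v * e⁻¹) * (e * (e * v * e⁻¹) * e⁻¹)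
  have htV : ∀ v ∈ V, tc v ∈ V := fun v hv => mul_mem (mul_mem hv (hcj e hv)) (hcj e (hcj e hv))
  have htF : ∀ v ∈ V, tc v ∈ F := by
    intro v hv
    rw [hFmem]
    refine ⟨htV v hv, ?_⟩
    show e * (v * (e * v * e⁻¹) * (e * (e * v * e⁻¹) * e⁻¹)) * e⁻¹ = v * (e * v * e⁻¹) * (e * (e * v * e⁻¹) * e⁻¹)
    have h3 : e * (e * (e * v * e⁻¹) * e⁻¹) * e⁻¹ = v := by
      calc e * (e * (e * v * e⁻¹) * e⁻¹) * e⁻¹ = (e * e * e) * v * (e * e * e)⁻¹ := by group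
        _ = v := by rw [he3]; group
    calc e * (v * (e * v * e⁻¹) * (e * (e * v * e⁻¹) * e⁻¹)) * e⁻¹
        = ((e * v * e⁻¹) * (e * (e * v * e⁻¹) * e⁻¹)) * (e * (e * (e * v * e⁻¹) * e⁻¹) * e⁻¹) := by group
      _ = ((e * v * e⁻¹) * (e * (e * v * e⁻¹) * e⁻¹)) * v := by rw [h3]
      _ = v * ((e * v * e⁻¹) * (e * (e * v * e⁻¹) * e⁻¹)) := hvc (mul_mem (hcj e hv) (hcj e (hcj e hv))) hv
      _ = _ := by group
  have htmul : ∀ v ∈ V, ∀ w ∈ V, tc (v * w) = tc v * tc w := by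
    intro v hv w hw
    show (v * w) * (e * (v * w) * e⁻¹) * (e * (e * (v * w) * e⁻¹) * e⁻¹) =
      (v * (e * v * e⁻¹) * (e * (e * v * e⁻¹) * e⁻¹)) * (w * (e * w * e⁻¹) * (e * (e * w * e⁻¹) * e⁻¹))
    have h3 := hvc hw (hcj e hv)
    have h4 := hvc (mul_mem hw (hcj e hw)) (hcj e (hcj e hv))
    calc (v * w) * (e * (v * w) * e⁻¹) * (e * (e * (v * w) * e⁻¹) * e⁻¹)
        = v * (w * (e * v * e⁻¹)) * (e * w * e⁻¹) * ((e * (e * v * e⁻¹) * e⁻¹) * (e * (e * w * e⁻¹) * e⁻¹)) := by group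
      _ = v * ((e * v * e⁻¹) * w) * (e * w * e⁻¹) * ((e * (e * v * e⁻¹) * e⁻¹) * (e * (e * w * e⁻¹) * e⁻¹)) := by rw [h3]
      _ = v * (e * v * e⁻¹) * ((w * (e * w * e⁻¹)) * (e * (e * v * e⁻¹) * e⁻¹)) * (e * (e * w * e⁻¹) * e⁻¹) := by group
      _ = v * (e * v * e⁻¹) * ((e * (e * v * e⁻¹) * e⁻¹) * (w * (e * w * e⁻¹))) * (e * (e * w * e⁻¹) * e⁻¹) := by rw [h4]
      _ = _ := by group
  have htfix : ∀ f ∈ F, tc f = f := by
    intro f hf
    obtain ⟨hfV, hfe⟩ := (hFmem f).1 hf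
    show f * (e * f * e⁻¹) * (e * (e * f * e⁻¹) * e⁻¹) = f
    rw [hfe, hfe, hvm hfV, one_mul]
  -- commuting actions
  have hca : ∀ v ∈ V, e * (x * v * x⁻¹) * e⁻¹ = x * (e * v * e⁻¹) * x⁻¹ := by
    intro v hv
    have h3 := conj_congr hV h2 (x := x * e) (x' := e * x) (v := v) (by simpa [mul_assoc] using hxe) hv
    calc e * (x * v * x⁻¹) * e⁻¹ = (e * x) * v * (e * x)⁻¹ := by group
      _ = (x * e) * v * (x * e)⁻¹ := h3.symm
      _ = _ := by group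
  have htx : ∀ v ∈ V, tc (x * v * x⁻¹) = x * tc v * x⁻¹ := by
    intro v hv
    show (x * v * x⁻¹) * (e * (x * v * x⁻¹) * e⁻¹) * (e * (e * (x * v * x⁻¹) * e⁻¹) * e⁻¹) = _
    rw [hca v hv, hca _ (hcj e hv)]
    show _ = x * (v * (e * v * e⁻¹) * (e * (e * v * e⁻¹) * e⁻¹)) * x⁻¹
    group
  -- the subgroup `M`
  let M : Subgroup Y :=
    { carrier := {m | m ∈ V ∧ tc m = 1}
      one_mem' := ⟨V.one_mem, by show 1 * (e * 1 * e⁻¹) * (e * (e * 1 * e⁻¹) * e⁻¹) = 1; group⟩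
      mul_mem' := by
        rintro a b ⟨ha, ha'⟩ ⟨hb, hb'⟩
        exact ⟨V.mul_mem ha hb, by rw [htmul a ha b hb, ha', hb', one_mul]⟩
      inv_mem' := by
        rintro a ⟨ha, ha'⟩
        exact ⟨V.inv_mem ha, by rw [hvi ha]; exact ha'⟩ }
  have hMmem : ∀ m, m ∈ M ↔ m ∈ V ∧ tc m = 1 := fun m => Iff.rfl
  have hMF : ∀ m ∈ M, m ∈ F → m = 1 := by
    intro m hm hmF
    rw [← htfix m hmF]
    exact hm.2
  have hMcard : Nat.card M ≤ 4 := by
    have hinj : Function.Injective (fun v : M × F => (⟨(v.1 : Y) * v.2, mul_mem v.1.2.1 ((hFmem _).1 v.2.2).1⟩ : V)) := by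
      rintro ⟨a, b⟩ ⟨a', b'⟩ hab
      have h3 : (a : Y) * b = a' * b' := congrArg Subtype.val hab
      have h4 : (a' : Y)⁻¹ * a = b' * (b : Y)⁻¹ := by
        calc (a' : Y)⁻¹ * a = (a' : Y)⁻¹ * (a * b) * (b : Y)⁻¹ := by group
          _ = (a' : Y)⁻¹ * (a' * b') * (b : Y)⁻¹ := by rw [h3]
          _ = _ := by group
      have h5 : (a' : Y)⁻¹ * a = 1 := hMF _ (mul_mem (inv_mem a'.2) a.2) (by
        rw [h4]; exact mul_mem b'.2 (inv_mem b.2))
      rw [h5] at h4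
      rw [inv_mul_eq_one] at h5
      have h6 := (mul_inv_eq_one.1 h4.symm)
      rw [Subtype.ext h5.symm, Subtype.ext h6.symm]
    have h3 := Nat.card_le_card_of_injective _ hinj
    rw [Nat.card_prod, h16, hF] at h3
    omega
  have hdec : ∀ v ∈ V, v * (tc v)⁻¹ ∈ M := by
    intro v hv
    refine ⟨mul_mem hv (inv_mem (htV v hv)), ?_⟩
    rw [hvi (htV v hv), htmul v hv _ (htV v hv), htfix _ (htF v hv), hvm (htV v hv)]
  have hxx : ∀ v ∈ V, x * (x * v * x⁻¹) * x⁻¹ = v := by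
    intro v hv
    have h3 := hvc hx2 hv
    calc x * (x * v * x⁻¹) * x⁻¹ = (x ^ 2 * v) * (x ^ 2)⁻¹ := by rw [pow_two]; group
      _ = v := by rw [h3]; group
  -- `x` centralizes `M`
  have hxM : ∀ m ∈ M, x * m * x⁻¹ = m := by
    by_contra hcon
    push Not at hcon
    obtain ⟨m, hm, hmx⟩ := hcon
    set n := x * m * x⁻¹ * m⁻¹ with hn
    have hn1 : n ≠ 1 := fun h => hmx (by rw [hn, mul_inv_eq_one] at h; exact h)
    have hxm : x * m * x⁻¹ ∈ M := ⟨hcj x hm.1, by rw [htx m hm.1, hm.2]; group⟩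
    have hnM : n ∈ M := mul_mem hxm (inv_mem hm)
    have hnx : x * n * x⁻¹ = n := by
      have h3 : x * n * x⁻¹ = (x * (x * m * x⁻¹) * x⁻¹) * (x * m * x⁻¹)⁻¹ := by rw [hn]; group
      rw [h3, hxx m hm.1, hvi (hcj x hm.1), hn, hvi hm.1]
      exact hvc hm.1 (hcj x hm.1)
    have hen : e * n * e⁻¹ ∈ M := by
      refine ⟨hcj e hnM.1, ?_⟩
      have h3 : tc (e * n * e⁻¹) = e * tc n * e⁻¹ := by
        show (e * n * e⁻¹) * (e * (e * n * e⁻¹) * e⁻¹) * (e * (e * (e * n * e⁻¹) * e⁻¹) * e⁻¹) =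
          e * (n * (e * n * e⁻¹) * (e * (e * n * e⁻¹) * e⁻¹)) * e⁻¹
        group
      rw [h3, hnM.2]; group
    have henx : x * (e * n * e⁻¹) * x⁻¹ = e * n * e⁻¹ := by rw [← hca n hnM.1, hnx]
    have hne : e * n * e⁻¹ ≠ n := fun h => hn1 (hMF n hnM ((hFmem n).2 ⟨hnM.1, h⟩))
    have hen1 : e * n * e⁻¹ ≠ 1 := by
      intro h
      apply hn1
      rw [mul_inv_eq_one] at h
      exact mul_left_cancel (h.trans (mul_one e).symm)
    set D := M ⊓ centralizer {x} with hD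
    have hDmem : ∀ m, m ∈ D ↔ m ∈ M ∧ x * m * x⁻¹ = m := by
      intro f
      rw [hD, mem_inf, mem_centralizer_singleton_iff, mul_inv_eq_iff_eq_mul]
      exact and_congr_right fun _ => eq_comm
    have h3 : 3 ≤ Nat.card D := by
      have h4 : ({1, n, e * n * e⁻¹} : Set Y) ⊆ D := by
        rintro y (rfl | rfl | rfl)
        · exact one_mem _
        · exact (hDmem _).2 ⟨hnM, hnx⟩
        · exact (hDmem _).2 ⟨hen, henx⟩
      have h5 := Set.ncard_le_ncard h4 (Set.toFinite _)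
      rw [← Nat.card_coe_set_eq (D : Set Y)] at h5
      have h6 : ({1, n, e * n * e⁻¹} : Set Y).ncard = 3 := by
        rw [Set.ncard_insert_of_notMem, Set.ncard_pair hne.symm]
        simp only [Set.mem_insert_iff, Set.mem_singleton_iff, not_or]
        exact ⟨hn1.symm, hen1.symm⟩
      rw [h6] at h5
      exact h5
    have h4 : Nat.card D ∣ Nat.card M := Subgroup.card_dvd_of_le inf_le_left
    have h5 : Nat.card D ≠ Nat.card M := by
      intro h6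
      have h7 : D = M := Subgroup.eq_of_le_of_card_ge inf_le_left h6.ge
      rw [← h7] at hm
      exact hmx ((hDmem m).1 hm).2
    obtain ⟨k, hk⟩ := h4
    have hk1 : k = 0 ∨ k = 1 ∨ 2 ≤ k := by omega
    rcases hk1 with rfl | rfl | hk2
    · rw [mul_zero] at hk
      exact (Nat.card_pos (α := M)).ne' hk
    · rw [mul_one] at hk; exact h5 hk.symm
    · nlinarith
  -- `x` on `F`
  obtain ⟨v, hv, hvx⟩ := hxV
  set f := tc v with hf
  have hfF : f ∈ F := htF v hv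
  have hfV : f ∈ V := ((hFmem f).1 hfF).1
  have hfx : x * f * x⁻¹ ≠ f := by
    intro h
    apply hvx
    have h3 := hxM _ (hdec v hv)
    calc x * v * x⁻¹ = (x * (v * f⁻¹) * x⁻¹) * (x * f * x⁻¹) := by group
      _ = v := by rw [h3, h, hf]; group
  have hFx : ∀ f ∈ F, x * f * x⁻¹ ∈ F := by
    intro f hf
    obtain ⟨hfV, hfe⟩ := (hFmem f).1 hf
    rw [hFmem]
    exact ⟨hcj x hfV, by rw [hca f hfV, hfe]⟩
  set D := F ⊓ centralizer {x} with hD
  have hDmem : ∀ m, m ∈ D ↔ m ∈ F ∧ x * m * x⁻¹ = m := by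
    intro f
    rw [hD, mem_inf, mem_centralizer_singleton_iff, mul_inv_eq_iff_eq_mul]
    exact and_congr_right fun _ => eq_comm
  have hFc : ∀ f ∈ F, x * f * x⁻¹ * f⁻¹ ∈ D := by
    intro f hf
    obtain ⟨hfV, hfe⟩ := (hFmem f).1 hf
    rw [hDmem]
    refine ⟨mul_mem (hFx f hf) (inv_mem hf), ?_⟩
    have h3 : x * (x * f * x⁻¹ * f⁻¹) * x⁻¹ = (x * (x * f * x⁻¹) * x⁻¹) * (x * f * x⁻¹)⁻¹ := by group
    rw [h3, hxx f hfV, hvi (hcj x hfV), hvi hfV]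
    exact hvc hfV (hcj x hfV)
  set u := x * f * x⁻¹ * f⁻¹ with hu
  have hu1 : u ≠ 1 := fun h => hfx (by rw [hu, mul_inv_eq_one] at h; exact h)
  have huD : u ∈ D := hFc f hfF
  have hD2 : Nat.card D = 2 := by
    have h4 : Nat.card D ∣ Nat.card F := Subgroup.card_dvd_of_le inf_le_left
    have h5 : Nat.card D ≠ Nat.card F := by
      intro h6
      have h7 : D = F := Subgroup.eq_of_le_of_card_ge inf_le_left h6.ge
      rw [← h7] at hfF
      exact hfx ((hDmem f).1 hfF).2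
    have h6 : Nat.card D ≠ 1 := by
      intro h7
      have h8 := Subgroup.card_eq_one.1 h7
      rw [h8] at huD
      exact hu1 huD
    rw [hF] at h4 h5
    have h7 := Nat.le_of_dvd (by norm_num) h4
    have h8 : 0 < Nat.card D := Nat.card_pos
    have h9 : Nat.card D = 2 ∨ Nat.card D = 3 := by omega
    rcases h9 with h9 | h9
    · exact h9
    · rw [h9] at h4; omega
  have hD' : ∀ a ∈ D, a = 1 ∨ a = u := by
    intro a ha
    by_cases ha1 : a = 1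
    · exact Or.inl ha1
    · exact Or.inr (eq_of_card_two hD2 ha huD ha1 hu1)
  have huF : u ∈ F := ((hDmem u).1 huD).1
  have huV : u ∈ V := ((hFmem u).1 huF).1
  have hcm : ∀ v ∈ V, x * v * x⁻¹ * v⁻¹ = 1 ∨ x * v * x⁻¹ * v⁻¹ = u := by
    intro v hv
    apply hD'
    have h3 := hxM _ (hdec v hv)
    have h4 := hFc _ (htF v hv)
    have h5 : x * v * x⁻¹ * v⁻¹ = (x * (v * (tc v)⁻¹) * x⁻¹) * (x * tc v * x⁻¹) * v⁻¹ := by group
    rw [h5, h3]
    have h6 : v * (tc v)⁻¹ * (x * tc v * x⁻¹) * v⁻¹ = x * tc v * x⁻¹ * (tc v)⁻¹ := by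
      have h7 := hvc (mul_mem hv (inv_mem (htV v hv))) (hcj x (htV v hv))
      rw [h7]
      have h8 := hvc hv (inv_mem (htV v hv))
      rw [h8]
      group
    rw [h6]
    exact h4
  refine ⟨u, huV, hu1, hcm, ?_⟩
  apply hD'
  rw [hDmem, hFmem]
  refine ⟨⟨hx2, ?_⟩, by rw [pow_two]; group⟩
  -- `e` fixes `x ^ 2`
  set k := e * x * e⁻¹ * x⁻¹ with hk
  have hkV : k ∈ V := by
    have h3 : k = x * ((x⁻¹ * (x * e * x⁻¹ * e⁻¹)⁻¹ * x)) * x⁻¹ := by
      rw [hk]; group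
    rw [h3]
    apply hcj x
    have := hcj x⁻¹ (inv_mem hxe)
    simpa using this
  have hexe : e * x ^ 2 * e⁻¹ = (x * k * x⁻¹ * k⁻¹) * x ^ 2 := by
    have h3 : e * x ^ 2 * e⁻¹ = k * (x * k * x⁻¹) * x ^ 2 := by
      rw [hk, pow_two]; group
    rw [h3, hvi hkV, hvc hkV (hcj x hkV)]
  rcases hcm k hkV with h3 | h3
  · rw [hexe, h3, one_mul]
  · exfalso
    rw [h3] at hexe
    have hue : e * u * e⁻¹ = u := ((hFmem u).1 huF).2
    have h4 : e * (e * x ^ 2 * e⁻¹) * e⁻¹ = x ^ 2 := by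
      rw [hexe]
      calc e * (u * x ^ 2) * e⁻¹ = (e * u * e⁻¹) * (e * x ^ 2 * e⁻¹) := by group
        _ = (u * u) * x ^ 2 := by rw [hue, hexe]; group
        _ = x ^ 2 := by rw [hvm huV, one_mul]
    have h5 : x ^ 2 = u * x ^ 2 := by
      calc x ^ 2 = (e * e * e) * x ^ 2 * (e * e * e)⁻¹ := by rw [he3]; group
        _ = e * (e * (e * x ^ 2 * e⁻¹) * e⁻¹) * e⁻¹ := by group
        _ = e * x ^ 2 * e⁻¹ := by rw [h4]
        _ = u * x ^ 2 := hexe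
    exact hu1 (mul_right_cancel ((one_mul _).trans h5)).symm

end H26.PcB
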