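import Mathlib
import Cfsg.Agent.Lib.H26.PcB4

/-!
Three commuting transvections permuted by an element of order three: an elementary abelian
section of order 32.
-/

set_option autoImplicit false
set_option linter.unusedSectionVars false
set_option linter.style.haveILetI false
set_option linter.unusedSimpArgs false

open Subgroup

namespace H26.PcB

open H26.PcA

variable {Y : Type*} [Group Y] {V : Subgroup Y}

/-- `T` acts as a transvection on `V` with centre `u`, and `T ^ 2 ∈ {1, u}`. -/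
structure TD (V : Subgroup Y) (T u : Y) : Prop where
  nt : ∃ v ∈ V, T * v * T⁻¹ ≠ v
  uV : u ∈ V
  u1 : u ≠ 1
  cm : ∀ v ∈ V, T * v * T⁻¹ * v⁻¹ = 1 ∨ T * v * T⁻¹ * v⁻¹ = u
  sq : T ^ 2 = 1 ∨ T ^ 2 = u

theorem TD.sqV {T u : Y} (h : TD V T u) : T ^ 2 ∈ V := by
  rcases h.sq with h1 | h1 <;> rw [h1]
  · exact one_mem _
  · exact h.uV

theorem TD.fix_sq (h2 : ∀ v ∈ V, v ^ 2 = 1) {T u : Y} (h : TD V T u) {v : Y} (hv : v ∈ V) :
    T * (T * v * T⁻¹) * T⁻¹ = v := by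
  have h3 := vcomm h2 h.sqV hv
  calc T * (T * v * T⁻¹) * T⁻¹ = (T ^ 2 * v) * (T ^ 2)⁻¹ := by rw [pow_two]; group
    _ = v := by rw [h3]; group

theorem TD.fix_u (hV : V.Normal) (h2 : ∀ v ∈ V, v ^ 2 = 1) {T u : Y} (h : TD V T u) : T * u * T⁻¹ = u := by
  obtain ⟨v, hv, hvT⟩ := h.nt
  have h1 : T * v * T⁻¹ * v⁻¹ = u := (h.cm v hv).resolve_left (fun h1 => hvT (mul_inv_eq_one.1 h1))
  have hTv := hV.conj_mem v hv T
  calc T * u * T⁻¹ = (T * (T * v * T⁻¹) * T⁻¹) * (T * v * T⁻¹)⁻¹ := by rw [← h1]; group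
    _ = v * (T * v * T⁻¹) := by rw [h.fix_sq h2 hv, vinv h2 hTv]
    _ = (T * v * T⁻¹) * v⁻¹ := by rw [vinv h2 hv]; exact vcomm h2 hv hTv
    _ = u := h1

theorem TD.conj_u (hV : V.Normal) (h2 : ∀ v ∈ V, v ^ 2 = 1) {T u T' u' g : Y} (h : TD V T u) (h' : TD V T' u')
    (hg : g * T * g⁻¹ * T'⁻¹ ∈ V) : g * u * g⁻¹ = u' := by
  obtain ⟨v, hv, hvT⟩ := h.nt
  have h1 : T * v * T⁻¹ * v⁻¹ = u := (h.cm v hv).resolve_left (fun h1 => hvT (mul_inv_eq_one.1 h1))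
  have hgv := hV.conj_mem v hv g
  have h3 := conj_congr hV h2 hg hgv
  have h4 : g * u * g⁻¹ = T' * (g * v * g⁻¹) * T'⁻¹ * (g * v * g⁻¹)⁻¹ := by
    rw [← h3, ← h1]; group
  rw [h4]
  refine (h'.cm _ hgv).resolve_left ?_
  intro h5
  rw [← h4] at h5
  apply h.u1
  rw [mul_inv_eq_one] at h5
  exact mul_left_cancel (h5.trans (mul_one g).symm)

theorem TD.conj (hV : V.Normal) {T u : Y} (h : TD V T u) (g : Y) : TD V (g * T * g⁻¹) (g * u * g⁻¹) := by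
  constructor
  · obtain ⟨v, hv, hvT⟩ := h.nt
    refine ⟨g * v * g⁻¹, hV.conj_mem v hv g, fun h1 => hvT ?_⟩
    have h2 : g * (T * v * T⁻¹) * g⁻¹ = g * v * g⁻¹ := by
      rw [← h1]; group
    exact mul_left_cancel (mul_right_cancel h2)
  · exact hV.conj_mem u h.uV g
  · intro h1
    apply h.u1
    rw [mul_inv_eq_one] at h1
    exact mul_left_cancel (h1.trans (mul_one g).symm)
  · intro v hv
    have hgv : g⁻¹ * v * g ∈ V := by simpa using hV.conj_mem v hv g⁻¹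
    have h1 : g * T * g⁻¹ * v * (g * T * g⁻¹)⁻¹ * v⁻¹ = g * (T * (g⁻¹ * v * g) * T⁻¹ * (g⁻¹ * v * g)⁻¹) * g⁻¹ := by
      group
    rw [h1]
    rcases h.cm _ hgv with h2 | h2 <;> rw [h2]
    · left; group
    · right; rfl
  · rw [conj_pow]
    rcases h.sq with h1 | h1 <;> rw [h1]
    · left; group
    · right; rfl

theorem dmem {T v : Y} : v ∈ V ⊓ centralizer {T} ↔ v ∈ V ∧ T * v * T⁻¹ = v := by
  rw [mem_inf, mem_centralizer_singleton_iff, mul_inv_eq_iff_eq_mul]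
  exact and_congr_right fun _ => eq_comm

theorem TD.card_eight [Finite Y] (hV : V.Normal) (h2 : ∀ v ∈ V, v ^ 2 = 1) (h16 : Nat.card V = 16) {T u : Y}
    (h : TD V T u) : Nat.card (V ⊓ centralizer {T} : Subgroup Y) = 8 := by
  let κ : ↥V →* Y :=
    { toFun := fun v => T * v * T⁻¹ * (v : Y)⁻¹
      map_one' := by simp
      map_mul' := by
        intro a b
        have h1 := vcomm h2 (mul_mem (hV.conj_mem b b.2 T) (inv_mem b.2)) (inv_mem a.2)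
        have h3 : T * ((a * b : ↥V) : Y) * T⁻¹ * ((a * b : ↥V) : Y)⁻¹ =
            T * a * T⁻¹ * (T * b * T⁻¹ * (b : Y)⁻¹ * (a : Y)⁻¹) := by
          simp only [Subgroup.coe_mul]; group
        rw [h3, h1]
        group }
  have hκ : ∀ v : V, κ v = T * v * T⁻¹ * (v : Y)⁻¹ := fun _ => rfl
  have hker : κ.ker.map V.subtype = V ⊓ centralizer {T} := by
    ext v
    rw [dmem]
    constructor
    · rintro ⟨w, hw, rfl⟩
      refine ⟨w.2, ?_⟩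
      have h1 : T * w * T⁻¹ * (w : Y)⁻¹ = 1 := hw
      exact mul_inv_eq_one.1 h1
    · rintro ⟨hv, hvT⟩
      refine ⟨⟨v, hv⟩, ?_, rfl⟩
      show T * v * T⁻¹ * v⁻¹ = 1
      rw [hvT, mul_inv_cancel]
  have hran : Nat.card κ.range = 2 := by
    have h1 : (κ.range : Set Y) = {1, u} := by
      ext y
      constructor
      · rintro ⟨v, rfl⟩
        exact h.cm v v.2
      · rintro (rfl | rfl)
        · exact one_mem _
        · obtain ⟨v, hv, hvT⟩ := h.nt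
          exact ⟨⟨v, hv⟩, (h.cm v hv).resolve_left (fun h1 => hvT (mul_inv_eq_one.1 h1))⟩
    have h3 : Nat.card (κ.range : Set Y) = 2 := by
      rw [h1, Nat.card_coe_set_eq, Set.ncard_pair h.u1.symm]
    exact h3
  have h1 := Subgroup.card_mul_index κ.ker
  rw [Subgroup.index_ker κ, hran, h16] at h1
  rw [← hker, Subgroup.card_map_of_injective V.subtype_injective]
  omega

theorem TD.ne_axis [Finite Y] (hV : V.Normal) (h2 : ∀ v ∈ V, v ^ 2 = 1) (h16 : Nat.card V = 16) {T u d : Y}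
    (h : TD V T u) (d3 : d ^ 3 = 1) (hd : ∀ v ∈ V, d * v * d⁻¹ = v → v = 1) :
    Nat.card ((V ⊓ centralizer {T}) ⊓ (V ⊓ centralizer {d * T * d⁻¹}) : Subgroup Y) ≤ 4 := by
  set D := V ⊓ centralizer {T} with hD
  set D' := V ⊓ centralizer {d * T * d⁻¹} with hD'
  have h8 := h.card_eight hV h2 h16
  have h8' := (h.conj hV d).card_eight hV h2 h16
  rw [← hD] at h8
  rw [← hD'] at h8'
  have hne : D ⊓ D' ≠ D := by
    intro h1
    have h3 : D = D' := Subgroup.eq_of_le_of_card_ge (inf_eq_left.1 h1) (by rw [h8, h8'])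
    have h4 := fix_sub (by norm_num : Nat.Prime 3) d d3 D (by
      intro v hv
      obtain ⟨hvV, hvT⟩ := dmem.1 hv
      rw [h3]
      refine dmem.2 ⟨hV.conj_mem v hvV d, ?_⟩
      calc d * T * d⁻¹ * (d * v * d⁻¹) * (d * T * d⁻¹)⁻¹ = d * (T * v * T⁻¹) * d⁻¹ := by group
        _ = _ := by rw [hvT])
    have h5 : D ⊓ centralizer {d} = ⊥ := by
      rw [eq_bot_iff]
      rintro v ⟨hv, hvd⟩
      have h6 := mem_centralizer_singleton_iff.1 (show v ∈ centralizer {d} from hvd)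
      exact hd v (dmem.1 hv).1 (by rw [mul_inv_eq_iff_eq_mul]; exact h6.symm)
    rw [h5, Subgroup.card_bot, h8] at h4
    unfold Nat.ModEq at h4
    omega
  obtain ⟨k, hk⟩ := Subgroup.card_dvd_of_le (inf_le_left : D ⊓ D' ≤ D)
  rw [h8] at hk
  have hk1 : k ≠ 1 := by
    rintro rfl
    exact hne (Subgroup.eq_of_le_of_card_ge inf_le_left (by rw [h8]; omega))
  have hk0 : k ≠ 0 := by rintro rfl; omega
  have hk2 : 2 ≤ k := by omega
  nlinarith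

theorem TD.comm_fix (hV : V.Normal) (h2 : ∀ v ∈ V, v ^ 2 = 1) {T u T' u' : Y} (h : TD V T u) (h' : TD V T' u')
    (hk : T * T' * T⁻¹ * T'⁻¹ ∈ V) :
    T * (T * T' * T⁻¹ * T'⁻¹) * T⁻¹ = T * T' * T⁻¹ * T'⁻¹ ∧ T' * (T * T' * T⁻¹ * T'⁻¹) * T'⁻¹ = T * T' * T⁻¹ * T'⁻¹ := by
  set k := T * T' * T⁻¹ * T'⁻¹ with hkdef
  -- `T'` fixes `T ^ 2` and conversely
  have hk' : T' * T * T'⁻¹ * T⁻¹ ∈ V := by
    have := inv_mem hk
    rw [hkdef] at this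
    convert this using 1
    group
  have e1 : T' * T ^ 2 * T'⁻¹ = T ^ 2 := by
    rcases h.sq with h1 | h1 <;> rw [h1]
    · group
    · exact h.conj_u hV h2 h hk'
  have e2 : T * T' ^ 2 * T⁻¹ = T' ^ 2 := by
    rcases h'.sq with h1 | h1 <;> rw [h1]
    · group
    · exact h'.conj_u hV h2 h' hk
  have hki := vinv h2 hk
  constructor
  · have h3 : T' * T * T'⁻¹ = k⁻¹ * T := by rw [hkdef]; group
    have h4 : (k⁻¹ * T) ^ 2 = T ^ 2 := by rw [← h3, conj_pow, e1]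
    have h5 : (k⁻¹ * T) ^ 2 = k⁻¹ * (T * k⁻¹ * T⁻¹) * T ^ 2 := by simp only [pow_two]; group
    rw [h5] at h4
    have h6 : k⁻¹ * (T * k⁻¹ * T⁻¹) = 1 := mul_right_cancel (h4.trans (one_mul _).symm)
    rw [hki] at h6
    rw [eq_inv_of_mul_eq_one_right h6, hki]
  · have h3 : T * T' * T⁻¹ = k * T' := by rw [hkdef]; group
    have h4 : (k * T') ^ 2 = T' ^ 2 := by rw [← h3, conj_pow, e2]
    have h5 : (k * T') ^ 2 = k * (T' * k * T'⁻¹) * T' ^ 2 := by simp only [pow_two]; group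
    rw [h5] at h4
    have h6 : k * (T' * k * T'⁻¹) = 1 := mul_right_cancel (h4.trans (one_mul _).symm)
    rw [eq_inv_of_mul_eq_one_right h6, hki]

theorem mem_four [Finite Y] {A : Subgroup Y} (h4 : Nat.card A ≤ 4) {a b c : Y} (ha : a ∈ A) (hb : b ∈ A) (hc : c ∈ A)
    (ha1 : a ≠ 1) (hb1 : b ≠ 1) (hc1 : c ≠ 1) (hab : a ≠ b) (hac : a ≠ c) (hbc : b ≠ c) :
    ∀ k ∈ A, k = 1 ∨ k = a ∨ k = b ∨ k = c := by
  have h1 : ({1, a, b, c} : Set Y) ⊆ A := by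
    rintro x (rfl | rfl | rfl | rfl)
    · exact one_mem _
    · exact ha
    · exact hb
    · exact hc
  have h3 : ({1, a, b, c} : Set Y).ncard = 4 := by
    rw [Set.ncard_insert_of_notMem, Set.ncard_insert_of_notMem, Set.ncard_pair hbc]
    · simp only [Set.mem_insert_iff, Set.mem_singleton_iff, not_or]
      exact ⟨hab, hac⟩
    · simp only [Set.mem_insert_iff, Set.mem_singleton_iff, not_or]
      exact ⟨ha1.symm, hb1.symm, hc1.symm⟩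
  have h5 : ({1, a, b, c} : Set Y) = A := by
    apply Set.eq_of_subset_of_ncard_le h1 _ (Set.toFinite _)
    rw [h3, ← Nat.card_coe_set_eq (A : Set Y)]
    exact h4
  intro k hk
  have h6 : k ∈ ({1, a, b, c} : Set Y) := by rw [h5]; exact hk
  exact h6

/-- The section of order 32. -/
theorem tri [Finite Y] (hV : V.Normal) (h2 : ∀ v ∈ V, v ^ 2 = 1) (h16 : Nat.card V = 16) (hrk : RK Y)
    {T u d : Y} (h : TD V T u) (d3 : d ^ 3 = 1) (hd : ∀ v ∈ V, d * v * d⁻¹ = v → v = 1)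
    (hc : T * (d * T * d⁻¹) * T⁻¹ * (d * T * d⁻¹)⁻¹ ∈ V)
    (hcard : 64 < Nat.card (closure ((V : Set Y) ∪ {T, d * T * d⁻¹, d * (d * T * d⁻¹) * d⁻¹}))) : False := by
  have hd3 : ∀ g : Y, d * (d * (d * g * d⁻¹) * d⁻¹) * d⁻¹ = g := by
    intro g
    have he3 : d * d * d = 1 := by rw [← d3, pow_succ, pow_two]
    calc d * (d * (d * g * d⁻¹) * d⁻¹) * d⁻¹ = (d * d * d) * g * (d * d * d)⁻¹ := by group
      _ = g := by rw [he3]; group
  set T₂ := d * T * d⁻¹ with hT₂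
  set T₃ := d * T₂ * d⁻¹ with hT₃
  set u₂ := d * u * d⁻¹ with hu₂
  set u₃ := d * u₂ * d⁻¹ with hu₃
  have t2 : TD V T₂ u₂ := h.conj hV d
  have t3 : TD V T₃ u₃ := t2.conj hV d
  have hT31 : d * T₃ * d⁻¹ = T := hd3 T
  have hu31 : d * u₃ * d⁻¹ = u := hd3 u
  have hc23 : T₂ * T₃ * T₂⁻¹ * T₃⁻¹ ∈ V := by
    have := hV.conj_mem _ hc d
    convert this using 1
    rw [hT₃, hT₂]; group
  have hc31 : T₃ * T * T₃⁻¹ * T⁻¹ ∈ V := by
    have e0 : T₃ * T * T₃⁻¹ * T⁻¹ = d * (T₂ * T₃ * T₂⁻¹ * T₃⁻¹) * d⁻¹ := by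
      calc T₃ * T * T₃⁻¹ * T⁻¹ = (d * T₂ * d⁻¹) * (d * T₃ * d⁻¹) * (d * T₂ * d⁻¹)⁻¹ * (d * T₃ * d⁻¹)⁻¹ := by
            rw [hT31]
        _ = _ := by group
    rw [e0]
    exact hV.conj_mem _ hc23 d
  have inv_c : ∀ {a b : Y}, a * b * a⁻¹ * b⁻¹ ∈ V → b * a * b⁻¹ * a⁻¹ ∈ V := by
    intro a b hab
    have := inv_mem hab
    convert this using 1
    group
  have uV := h.uV
  have u2V := t2.uV
  have u3V := t3.uV
  -- the relation between the centres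
  have hprod : u * u₂ * u₃ = 1 := by
    apply hd _ (mul_mem (mul_mem uV u2V) u3V)
    calc d * (u * u₂ * u₃) * d⁻¹ = (d * u * d⁻¹) * (d * u₂ * d⁻¹) * (d * u₃ * d⁻¹) := by group
      _ = u₂ * u₃ * u := by rw [hu31]
      _ = u * (u₂ * u₃) := vcomm h2 (mul_mem u2V u3V) uV
      _ = _ := by group
  have hprod' : u₂ * u₃ * u = 1 := by rw [vcomm h2 (mul_mem u2V u3V) uV, ← mul_assoc]; exact hprod
  have n12 : u ≠ u₂ := by
    intro h1
    rw [← h1, vmul h2 uV, one_mul] at hprod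
    exact t3.u1 hprod
  have n23 : u₂ ≠ u₃ := by
    intro h1
    rw [← h1, vmul h2 u2V, one_mul] at hprod'
    exact h.u1 hprod'
  have n13 : u ≠ u₃ := by
    intro h1
    have h3 : u₂ * u₃ * u = u₂ := by rw [← h1, mul_assoc, vmul h2 uV, mul_one]
    rw [h3] at hprod'
    exact t2.u1 hprod'
  -- fixed centres
  have f11 := h.fix_u hV h2
  have f22 := t2.fix_u hV h2
  have f33 := t3.fix_u hV h2
  have f12 : T₂ * u * T₂⁻¹ = u := h.conj_u hV h2 h (inv_c hc)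
  have f21 : T * u₂ * T⁻¹ = u₂ := t2.conj_u hV h2 t2 hc
  have f23 : T₃ * u₂ * T₃⁻¹ = u₂ := t2.conj_u hV h2 t2 (inv_c hc23)
  have f32 : T₂ * u₃ * T₂⁻¹ = u₃ := t3.conj_u hV h2 t3 hc23
  have f13 : T₃ * u * T₃⁻¹ = u := h.conj_u hV h2 h hc31
  have f31 : T * u₃ * T⁻¹ = u₃ := t3.conj_u hV h2 t3 (inv_c hc31)
  -- axes
  have a12 := h.ne_axis hV h2 h16 d3 hd
  have a23 := t2.ne_axis hV h2 h16 d3 hd
  have a31 := t3.ne_axis hV h2 h16 d3 hd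
  rw [← hT₂] at a12
  rw [← hT₃] at a23
  rw [hT31] at a31
  have m12 := mem_four a12 (a := u) (b := u₂) (c := u₃) ⟨dmem.2 ⟨uV, f11⟩, dmem.2 ⟨uV, f12⟩⟩ ⟨dmem.2 ⟨u2V, f21⟩, dmem.2 ⟨u2V, f22⟩⟩
    ⟨dmem.2 ⟨u3V, f31⟩, dmem.2 ⟨u3V, f32⟩⟩ h.u1 t2.u1 t3.u1 n12 n13 n23
  have m23 := mem_four a23 (a := u) (b := u₂) (c := u₃) ⟨dmem.2 ⟨uV, f12⟩, dmem.2 ⟨uV, f13⟩⟩ ⟨dmem.2 ⟨u2V, f22⟩, dmem.2 ⟨u2V, f23⟩⟩
    ⟨dmem.2 ⟨u3V, f32⟩, dmem.2 ⟨u3V, f33⟩⟩ h.u1 t2.u1 t3.u1 n12 n13 n23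
  have m31 := mem_four a31 (a := u) (b := u₂) (c := u₃) ⟨dmem.2 ⟨uV, f13⟩, dmem.2 ⟨uV, f11⟩⟩ ⟨dmem.2 ⟨u2V, f23⟩, dmem.2 ⟨u2V, f21⟩⟩
    ⟨dmem.2 ⟨u3V, f33⟩, dmem.2 ⟨u3V, f31⟩⟩ h.u1 t2.u1 t3.u1 n12 n13 n23
  set W := (V ⊓ centralizer {T}) ⊓ (V ⊓ centralizer {T₂}) with hW
  have w1 : u ∈ W := ⟨dmem.2 ⟨uV, f11⟩, dmem.2 ⟨uV, f12⟩⟩
  have w2 : u₂ ∈ W := ⟨dmem.2 ⟨u2V, f21⟩, dmem.2 ⟨u2V, f22⟩⟩
  have w3 : u₃ ∈ W := ⟨dmem.2 ⟨u3V, f31⟩, dmem.2 ⟨u3V, f32⟩⟩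
  have hWV : W ≤ V := inf_le_left.trans inf_le_left
  have hall : ∀ k, (k = 1 ∨ k = u ∨ k = u₂ ∨ k = u₃) → k ∈ W := by
    rintro k (rfl | rfl | rfl | rfl)
    · exact one_mem _
    · exact w1
    · exact w2
    · exact w3
  have k12 : T * T₂ * T⁻¹ * T₂⁻¹ ∈ W := by
    obtain ⟨e1, e2⟩ := h.comm_fix hV h2 t2 hc
    exact ⟨dmem.2 ⟨hc, e1⟩, dmem.2 ⟨hc, e2⟩⟩
  have k23 : T₂ * T₃ * T₂⁻¹ * T₃⁻¹ ∈ W := by
    obtain ⟨e1, e2⟩ := t2.comm_fix hV h2 t3 hc23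
    exact hall _ (m23 _ ⟨dmem.2 ⟨hc23, e1⟩, dmem.2 ⟨hc23, e2⟩⟩)
  have k31 : T₃ * T * T₃⁻¹ * T⁻¹ ∈ W := by
    obtain ⟨e1, e2⟩ := t3.comm_fix hV h2 h hc31
    exact hall _ (m31 _ ⟨dmem.2 ⟨hc31, e1⟩, dmem.2 ⟨hc31, e2⟩⟩)
  have inv_w : ∀ {a b : Y}, a * b * a⁻¹ * b⁻¹ ∈ W → b * a * b⁻¹ * a⁻¹ ∈ W := by
    intro a b hab
    have := inv_mem hab
    convert this using 1
    group
  have cmW : ∀ {T' u' : Y}, TD V T' u' → u' ∈ W → ∀ v ∈ V, T' * v * T'⁻¹ * v⁻¹ ∈ W := by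
    intro T' u' h' hu' v hv
    rcases h'.cm v hv with h1 | h1 <;> rw [h1]
    · exact one_mem _
    · exact hu'
  have sqW : ∀ {T' u' : Y}, TD V T' u' → u' ∈ W → T' ^ 2 ∈ W := by
    intro T' u' h' hu'
    rcases h'.sq with h1 | h1 <;> rw [h1]
    · exact one_mem _
    · exact hu'
  have cW : ∀ {T' : Y}, T' * u * T'⁻¹ = u → T' * u₂ * T'⁻¹ = u₂ → T' * u₃ * T'⁻¹ = u₃ → ∀ n ∈ W, T' * n = n * T' := by
    intro T' e1 e2 e3 n hn
    rcases m12 n hn with rfl | rfl | rfl | rfl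
    · rw [mul_one, one_mul]
    · exact mul_inv_eq_iff_eq_mul.1 e1
    · exact mul_inv_eq_iff_eq_mul.1 e2
    · exact mul_inv_eq_iff_eq_mul.1 e3
  have self : ∀ a : Y, a * a * a⁻¹ * a⁻¹ ∈ W := by
    intro a
    have : a * a * a⁻¹ * a⁻¹ = 1 := by group
    rw [this]; exact one_mem _
  obtain ⟨e1, e2⟩ := el_of_gen ((V : Set Y) ∪ {T, T₂, T₃}) W (by
    rintro s (hs | rfl | rfl | rfl) n hn
    · exact vcomm h2 hs (hWV hn)
    · exact cW f11 f21 f31 n hn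
    · exact cW f12 f22 f32 n hn
    · exact cW f13 f23 f33 n hn) (by
    rintro s (hs | rfl | rfl | rfl) s' (hs' | rfl | rfl | rfl)
    · rw [vcomm h2 hs hs']
      have : s' * s * s⁻¹ * s'⁻¹ = 1 := by group
      rw [this]; exact one_mem _
    · exact inv_w (cmW h w1 s hs)
    · exact inv_w (cmW t2 w2 s hs)
    · exact inv_w (cmW t3 w3 s hs)
    · exact cmW h w1 _ hs'
    · exact self _
    · exact k12
    · exact inv_w k31
    · exact cmW t2 w2 _ hs'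
    · exact inv_w k12
    · exact self _
    · exact k23
    · exact cmW t3 w3 _ hs'
    · exact k31
    · exact inv_w k23
    · exact self _) (by
    rintro s (hs | rfl | rfl | rfl)
    · rw [h2 s hs]; exact one_mem _
    · exact sqW h w1
    · exact sqW t2 w2
    · exact sqW t3 w3)
  set H := closure ((V : Set Y) ∪ {T, T₂, T₃}) with hH
  have hVH : V ≤ H := fun x hx => subset_closure (Or.inl hx)
  have h5 := hrk W H (hWV.trans hVH) e1 e2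
  have h6 := H3.PBasic.card_mul_relIndex (hWV.trans hVH)
  nlinarith

end H26.PcB
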