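import Mathlib
import Cfsg.Agent.Lib.H26.PcB5
import Cfsg.Agent.Lib.H26.PcA7

/-!
Extensions of an elementary abelian group of order 16 by the symmetric group of degree 6
have sectional rank at least five.
-/

set_option autoImplicit false
set_option linter.unusedSectionVars false
set_option linter.style.haveILetI false
set_option linter.unusedSimpArgs false

open Subgroup

namespace H26.PcB

open H26.PcA

section burnside

/-- powers of an element of order three -/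
def p3 {G : Type*} [Group G] (a : G) (ha : a ^ 3 = 1) : Multiplicative (ZMod 3) →* G where
  toFun i := a ^ (Multiplicative.toAdd i).val
  map_one' := by simp
  map_mul' i j := by
    rw [toAdd_mul, ZMod.val_add, ← pow_add, ← pow_eq_pow_mod _ ha]

theorem burnside {G : Type*} [Group G] [Finite G] (A B : MulAut G) (hA : A ^ 3 = 1) (hB : B ^ 3 = 1) (hAB : A * B = B * A)
    (f : MulAut G → ℕ) (hf : ∀ C, f C = Nat.card {v : G // C v = v}) :
    9 ∣ (f 1 + f B + f (B ^ 2)) + (f A + f (A * B) + f (A * B ^ 2)) + (f (A ^ 2) + f (A ^ 2 * B) + f (A ^ 2 * B ^ 2)) := by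
  classical
  have hcomm : ∀ i j, Commute (p3 A hA i) (p3 B hB j) := fun i j => (show Commute A B from hAB).pow_pow _ _
  let θ : Multiplicative (ZMod 3) × Multiplicative (ZMod 3) →* MulAut G := (p3 A hA).noncommCoprod (p3 B hB) hcomm
  letI : MulAction (Multiplicative (ZMod 3) × Multiplicative (ZMod 3)) G := MulAction.compHom G θ
  haveI := Fintype.ofFinite G
  have h := MulAction.sum_card_fixedBy_eq_card_orbits_mul_card_group (Multiplicative (ZMod 3) × Multiplicative (ZMod 3)) G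
  have hc : Fintype.card (Multiplicative (ZMod 3) × Multiplicative (ZMod 3)) = 9 := by
    rw [Fintype.card_prod]; rfl
  rw [hc] at h
  have h2 : ∀ e : Multiplicative (ZMod 3) × Multiplicative (ZMod 3),
      Fintype.card (MulAction.fixedBy G e) = f (A ^ (Multiplicative.toAdd e.1).val * B ^ (Multiplicative.toAdd e.2).val) := by
    intro e
    rw [hf, ← Nat.card_eq_fintype_card]
    rfl
  simp only [h2] at h
  rw [Fintype.sum_prod_type] at h
  have h3 : ∀ g : Multiplicative (ZMod 3) → ℕ, ∑ i, g i = g (Multiplicative.ofAdd 0) + g (Multiplicative.ofAdd 1) + g (Multiplicative.ofAdd 2) :=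
    fun g => Fin.sum_univ_three (fun i : Fin 3 => g (Multiplicative.ofAdd (i : ZMod 3)))
  simp only [h3] at h
  have v0 : (0 : ZMod 3).val = 0 := rfl
  have v1 : (1 : ZMod 3).val = 1 := rfl
  have v2 : (2 : ZMod 3).val = 2 := rfl
  simp only [toAdd_ofAdd, v0, v1, v2, pow_zero, pow_one, one_mul, mul_one] at h
  rw [h]
  exact Dvd.intro_left _ rfl

end burnside

variable {Y : Type*} [Group Y] {ρ : Y →* Equiv.Perm (Fin 6)}

/-- The data. -/
structure S6 (ρ : Y →* Equiv.Perm (Fin 6)) : Prop where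
  surj : Function.Surjective ρ
  e2 : ∀ v ∈ ρ.ker, v ^ 2 = 1
  c16 : Nat.card ρ.ker = 16
  rk : RK Y
  ff : ∀ x : Y, (∀ v ∈ ρ.ker, x * v = v * x) → x ∈ ρ.ker

namespace S6

theorem exists_action (h : S6 ρ) : ∃ α : Equiv.Perm (Fin 6) →* MulAut ρ.ker, ∀ (x : Y) (v : ρ.ker), ((α (ρ x) v : ρ.ker) : Y) = x * v * x⁻¹ := by
  have hk : ρ.ker ≤ (MulAut.conjNormal : Y →* MulAut ρ.ker).ker := by
    intro x hx
    rw [MonoidHom.mem_ker]
    ext v
    rw [MulAut.conjNormal_apply]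
    show x * v * x⁻¹ = v
    rw [vcomm h.e2 hx v.2, mul_inv_cancel_right]
  refine ⟨ρ.liftOfSurjective h.surj ⟨MulAut.conjNormal, hk⟩, fun x v => ?_⟩
  have h1 : (ρ.liftOfSurjective h.surj ⟨MulAut.conjNormal, hk⟩) (ρ x) = (MulAut.conjNormal : Y →* MulAut ρ.ker) x :=
    MonoidHom.liftOfRightInverse_comp_apply _ _ _ _ _
  rw [h1, MulAut.conjNormal_apply]

/-- Number of fixed points. -/
noncomputable def cx (ρ : Y →* Equiv.Perm (Fin 6)) (x : Y) : ℕ := Nat.card (ρ.ker ⊓ centralizer {x} : Subgroup Y)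

theorem cx_three [Finite Y] (h : S6 ρ) {x : Y} (hx : x ^ 3 = 1) (hx1 : ρ x ≠ 1) : cx ρ x = 1 ∨ cx ρ x = 4 := by
  have h1 := fix_sub (by norm_num : Nat.Prime 3) x hx ρ.ker (fun s hs => (inferInstance : ρ.ker.Normal).conj_mem s hs x)
  rw [h.c16] at h1
  have h2 : cx ρ x ∣ 16 := by
    rw [← h.c16]
    exact Subgroup.card_dvd_of_le inf_le_left
  have h3 : cx ρ x ≠ 16 := by
    intro h3
    have h4 : ρ.ker ⊓ centralizer {x} = ρ.ker := Subgroup.eq_of_le_of_card_ge inf_le_left (by rw [h.c16]; exact h3.ge)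
    apply hx1
    apply h.ff x
    intro v hv
    rw [← h4] at hv
    exact (mem_centralizer_singleton_iff.1 (show v ∈ centralizer {x} from hv.2)).symm
  have h4 : 16 % 3 = cx ρ x % 3 := h1
  have h5 := Nat.le_of_dvd (by norm_num) h2
  interval_cases h6 : cx ρ x <;> omega

theorem cx_eq (α : Equiv.Perm (Fin 6) →* MulAut ρ.ker)
    (hα : ∀ (x : Y) (v : ρ.ker), ((α (ρ x) v : ρ.ker) : Y) = x * v * x⁻¹) (x : Y) :
    Nat.card {v : ρ.ker // α (ρ x) v = v} = cx ρ x := by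
  have e : {v : ρ.ker // α (ρ x) v = v} ≃ (ρ.ker ⊓ centralizer {x} : Subgroup Y) :=
    { toFun := fun v => ⟨v.1.1, dmem.2 ⟨v.1.2, by rw [← hα, v.2]⟩⟩
      invFun := fun v => ⟨⟨v.1, (dmem.1 v.2).1⟩, Subtype.ext (by rw [hα]; exact (dmem.1 v.2).2)⟩
      left_inv := fun v => rfl
      right_inv := fun v => rfl }
  exact Nat.card_congr e

theorem fx_conj {G : Type*} [Group G] (A C : MulAut G) :
    Nat.card {v : G // (A * C * A⁻¹) v = v} = Nat.card {v : G // C v = v} := by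
  have e : {v : G // C v = v} ≃ {v : G // (A * C * A⁻¹) v = v} :=
    A.toEquiv.subtypeEquiv (by
      intro v
      show C v = v ↔ (A * C * A⁻¹) (A v) = A v
      rw [MulAut.mul_apply, MulAut.mul_apply, MulAut.inv_apply_self]
      exact A.injective.eq_iff.symm)
  exact (Nat.card_congr e).symm

theorem fin6 [Finite Y] (h : S6 ρ) {t e d : Equiv.Perm (Fin 6)} (ht : t * t = 1) (he : e ^ 3 = 1) (hte : t * e = e * t)
    (ht1 : t ≠ 1) (hd : d ^ 3 = 1) (htd : t * (d * t * d⁻¹) = (d * t * d⁻¹) * t)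
    (h5 : ({1, t, d * t * d⁻¹, d * (d * t * d⁻¹) * d⁻¹, t * (d * t * d⁻¹)} : Finset (Equiv.Perm (Fin 6))).card = 5)
    (hfe : ∀ x : Y, ρ x = e → cx ρ x = 4) (hfd : ∀ x : Y, ρ x = d → cx ρ x = 1) : False := by
  have hVn : ρ.ker.Normal := inferInstance
  have h2p : IsPGroup 2 ρ.ker := isPGroup_of_sq h.e2
  obtain ⟨T, hT⟩ := h.surj t
  obtain ⟨e', he', he3⟩ := lift3 ρ h.surj h2p he
  obtain ⟨d', hd', hd3⟩ := lift3 ρ h.surj h2p hd
  have hT2 : T ^ 2 ∈ ρ.ker := by rw [MonoidHom.mem_ker, map_pow, hT, pow_two, ht]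
  have hTe : T * e' * T⁻¹ * e'⁻¹ ∈ ρ.ker := by
    rw [MonoidHom.mem_ker, map_mul, map_mul, map_mul, map_inv, map_inv, hT, he', hte]; group
  have hTV : ∃ v ∈ ρ.ker, T * v * T⁻¹ ≠ v := by
    by_contra hcon
    push Not at hcon
    apply ht1
    rw [← hT]
    exact h.ff T (fun v hv => mul_inv_eq_iff_eq_mul.1 (hcon v hv))
  obtain ⟨u, uV, u1, ucm, usq⟩ := tr hVn h.e2 h.c16 hT2 he3 hTe (hfe e' he') hTV
  have hTD : TD ρ.ker T u := ⟨hTV, uV, u1, ucm, usq⟩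
  have hdfix : ∀ v ∈ ρ.ker, d' * v * d'⁻¹ = v → v = 1 := by
    intro v hv hvd
    have h1 : v ∈ ρ.ker ⊓ centralizer {d'} := dmem.2 ⟨hv, hvd⟩
    rw [Subgroup.card_eq_one.1 (hfd d' hd')] at h1
    exact h1
  have hc : T * (d' * T * d'⁻¹) * T⁻¹ * (d' * T * d'⁻¹)⁻¹ ∈ ρ.ker := by
    rw [MonoidHom.mem_ker]
    simp only [map_mul, map_inv, hT, hd']
    rw [htd]; group
  refine tri hVn h.e2 h.c16 h.rk hTD hd3 hdfix hc ?_
  set H := closure ((ρ.ker : Set Y) ∪ {T, d' * T * d'⁻¹, d' * (d' * T * d'⁻¹) * d'⁻¹}) with hH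
  have hVH : ρ.ker ≤ H := fun x hx => subset_closure (Or.inl hx)
  have m1 : T ∈ H := subset_closure (Or.inr (by simp))
  have m2 : d' * T * d'⁻¹ ∈ H := subset_closure (Or.inr (by simp))
  have m3 : d' * (d' * T * d'⁻¹) * d'⁻¹ ∈ H := subset_closure (Or.inr (by simp))
  have h6 := H3.PBasic.card_mul_relIndex hVH
  rw [relIndex_ker, h.c16] at h6
  have h7 : 5 ≤ Nat.card (H.map ρ) := by
    rw [← h5, ← Set.ncard_coe_finset]
    have h8 : ((({1, t, d * t * d⁻¹, d * (d * t * d⁻¹) * d⁻¹, t * (d * t * d⁻¹)} : Finset (Equiv.Perm (Fin 6)))) :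
        Set (Equiv.Perm (Fin 6))) ⊆ (H.map ρ : Subgroup _) := by
      intro x hx
      simp only [Finset.coe_insert, Finset.coe_singleton, Set.mem_insert_iff, Set.mem_singleton_iff] at hx
      rcases hx with rfl | rfl | rfl | rfl | rfl
      · exact one_mem _
      · exact ⟨T, m1, hT⟩
      · exact ⟨_, m2, by simp only [map_mul, map_inv, hT, hd']⟩
      · exact ⟨_, m3, by simp only [map_mul, map_inv, hT, hd']⟩
      · exact ⟨_, mul_mem m1 m2, by simp only [map_mul, map_inv, hT, hd']⟩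
    have h9 := Set.ncard_le_ncard h8 (Set.toFinite _)
    rw [← Nat.card_coe_set_eq ((H.map ρ : Subgroup _) : Set (Equiv.Perm (Fin 6)))] at h9
    exact h9
  omega

def w1 : Equiv.Perm (Fin 6) := Equiv.swap 0 1 * Equiv.swap 1 2
def w2 : Equiv.Perm (Fin 6) := Equiv.swap 3 4 * Equiv.swap 4 5
def dA : Equiv.Perm (Fin 6) := Equiv.swap 1 2 * Equiv.swap 2 3
def dB : Equiv.Perm (Fin 6) := Equiv.swap 0 2 * Equiv.swap 2 4 * (Equiv.swap 1 3 * Equiv.swap 3 5)
def tA : Equiv.Perm (Fin 6) := Equiv.swap 0 1 * Equiv.swap 2 3 * Equiv.swap 4 5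
def tB : Equiv.Perm (Fin 6) := Equiv.swap 0 1

theorem k1 : w1 ^ 3 = 1 := by decide
theorem k2 : w2 ^ 3 = 1 := by decide
theorem k3 : w1 * w2 = w2 * w1 := by decide
theorem k4 : w1 ≠ 1 := by decide
theorem k5 : w2 ≠ 1 := by decide
theorem k6 : (w1 * w2) ^ 3 = 1 := by decide
theorem k7 : w1 * w2 ≠ 1 := by decide
theorem j1 : (Equiv.swap 0 3 * Equiv.swap 1 4 * Equiv.swap 2 5) * w1 * (Equiv.swap 0 3 * Equiv.swap 1 4 * Equiv.swap 2 5)⁻¹ = w2 := by decide
theorem j2 : (Equiv.swap 0 3 * Equiv.swap 1 5 * Equiv.swap 2 4) * w1 * (Equiv.swap 0 3 * Equiv.swap 1 5 * Equiv.swap 2 4)⁻¹ = w2 ^ 2 := by decide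
theorem j3 : (Equiv.swap 1 2) * w1 * (Equiv.swap 1 2)⁻¹ = w1 ^ 2 := by decide
theorem j4 : (Equiv.swap 4 5) * (w1 * w2) * (Equiv.swap 4 5)⁻¹ = w1 * w2 ^ 2 := by decide
theorem j5 : (Equiv.swap 1 2) * (w1 * w2) * (Equiv.swap 1 2)⁻¹ = w1 ^ 2 * w2 := by decide
theorem j6 : (Equiv.swap 1 2 * Equiv.swap 4 5) * (w1 * w2) * (Equiv.swap 1 2 * Equiv.swap 4 5)⁻¹ = w1 ^ 2 * w2 ^ 2 := by decide
theorem j7 : (Equiv.swap 0 1 * Equiv.swap 1 2 * Equiv.swap 2 3) * w1 * (Equiv.swap 0 1 * Equiv.swap 1 2 * Equiv.swap 2 3)⁻¹ = dA := by decide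
theorem j8 : (Equiv.swap 1 2 * Equiv.swap 2 4 * Equiv.swap 4 3) * (w1 * w2) * (Equiv.swap 1 2 * Equiv.swap 2 4 * Equiv.swap 4 3)⁻¹ = dB := by decide
theorem a1 : tA * tA = 1 := by decide
theorem a2 : dB ^ 3 = 1 := by decide
theorem a3 : tA * dB = dB * tA := by decide
theorem a4 : tA ≠ 1 := by decide
theorem a5 : dA ^ 3 = 1 := by decide
theorem a6 : tA * (dA * tA * dA⁻¹) = (dA * tA * dA⁻¹) * tA := by decide
theorem a7 : ({1, tA, dA * tA * dA⁻¹, dA * (dA * tA * dA⁻¹) * dA⁻¹, tA * (dA * tA * dA⁻¹)} : Finset (Equiv.Perm (Fin 6))).card = 5 := by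
  decide
theorem b1 : tB * tB = 1 := by decide
theorem b3 : tB * w2 = w2 * tB := by decide
theorem b4 : tB ≠ 1 := by decide
theorem b6 : tB * (dB * tB * dB⁻¹) = (dB * tB * dB⁻¹) * tB := by decide
theorem b7 : ({1, tB, dB * tB * dB⁻¹, dB * (dB * tB * dB⁻¹) * dB⁻¹, tB * (dB * tB * dB⁻¹)} : Finset (Equiv.Perm (Fin 6))).card = 5 := by
  decide

theorem no_S6 [Finite Y] (h : S6 ρ) : False := by
  obtain ⟨α, hα⟩ := h.exists_action
  have h2p : IsPGroup 2 ρ.ker := isPGroup_of_sq h.e2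
  obtain ⟨f, hf⟩ : ∃ f : MulAut ρ.ker → ℕ, ∀ C, f C = Nat.card {v : ρ.ker // C v = v} := ⟨_, fun _ => rfl⟩
  have hfc : ∀ g σ : Equiv.Perm (Fin 6), f (α (g * σ * g⁻¹)) = f (α σ) := by
    intro g σ
    rw [map_mul, map_mul, map_inv, hf, hf]
    exact fx_conj _ _
  have hfx : ∀ x : Y, f (α (ρ x)) = cx ρ x := fun x => (hf _).trans (cx_eq α hα x)
  have h14 : ∀ σ : Equiv.Perm (Fin 6), σ ^ 3 = 1 → σ ≠ 1 → f (α σ) = 1 ∨ f (α σ) = 4 := by
    intro σ h3 h1
    obtain ⟨x, hx, hx3⟩ := lift3 ρ h.surj h2p h3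
    rw [← hx, hfx]
    exact h.cx_three hx3 (by rw [hx]; exact h1)
  have hb := burnside (α w1) (α w2) (by rw [← map_pow, k1, map_one])
    (by rw [← map_pow, k2, map_one]) (by rw [← map_mul, ← map_mul, k3]) f hf
  have f1 : f 1 = 16 := by
    rw [hf, ← h.c16]
    exact Nat.card_congr (Equiv.subtypeUnivEquiv (fun v => rfl))
  have c1 : f (α w2) = f (α w1) := by
    rw [← hfc (Equiv.swap 0 3 * Equiv.swap 1 4 * Equiv.swap 2 5) w1, j1]
  have c2 : f (α (w2 ^ 2)) = f (α w1) := by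
    rw [← hfc (Equiv.swap 0 3 * Equiv.swap 1 5 * Equiv.swap 2 4) w1, j2]
  have c3 : f (α (w1 ^ 2)) = f (α w1) := by
    rw [← hfc (Equiv.swap 1 2) w1, j3]
  have c4 : f (α (w1 * w2 ^ 2)) = f (α (w1 * w2)) := by
    rw [← hfc (Equiv.swap 4 5) (w1 * w2), j4]
  have c5 : f (α (w1 ^ 2 * w2)) = f (α (w1 * w2)) := by
    rw [← hfc (Equiv.swap 1 2) (w1 * w2), j5]
  have c6 : f (α (w1 ^ 2 * w2 ^ 2)) = f (α (w1 * w2)) := by
    rw [← hfc (Equiv.swap 1 2 * Equiv.swap 4 5) (w1 * w2), j6]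
  have hda : f (α dA) = f (α w1) := by
    rw [← hfc (Equiv.swap 0 1 * Equiv.swap 1 2 * Equiv.swap 2 3) w1, j7]
  have hdb : f (α dB) = f (α (w1 * w2)) := by
    rw [← hfc (Equiv.swap 1 2 * Equiv.swap 2 4 * Equiv.swap 4 3) (w1 * w2), j8]
  have e1 : (α w2) ^ 2 = α (w2 ^ 2) := (map_pow _ _ _).symm
  have e2 : (α w1) ^ 2 = α (w1 ^ 2) := (map_pow _ _ _).symm
  rw [e1, e2, ← map_mul, ← map_mul, ← map_mul, ← map_mul, f1, c1, c2, c3, c4, c5, c6] at hb
  rcases h14 w1 k1 k4 with ha | ha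
  · have hbb : f (α (w1 * w2)) = 4 := by
      rcases h14 (w1 * w2) k6 k7 with hb' | hb'
      · rw [ha, hb'] at hb; omega
      · exact hb'
    refine h.fin6 a1 a2 a3 a4 a5 a6 a7 ?_ ?_
    · intro x hx
      rw [← hfx, hx, hdb, hbb]
    · intro x hx
      rw [← hfx, hx, hda, ha]
  · have hbb : f (α (w1 * w2)) = 1 := by
      rcases h14 (w1 * w2) k6 k7 with hb' | hb'
      · exact hb'
      · rw [ha, hb'] at hb; omega
    refine h.fin6 b1 k2 b3 b4 a2 b6 b7 ?_ ?_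
    · intro x hx
      rw [← hfx, hx, c1, ha]
    · intro x hx
      rw [← hfx, hx, hdb, hbb]

end S6

end H26.PcB
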