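import Mathlib
import Cfsg.Prelude
import Cfsg.Agent.Lib.H26.PcB6

/-!
Finite groups of sectional `2`-rank at most four: the symmetric group of degree `6` is not
involved over a self-centralizing normal `2`-subgroup.
-/

set_option autoImplicit false
set_option linter.unusedSectionVars false
set_option linter.style.haveILetI false
set_option linter.unusedSimpArgs false

open Subgroup Cfsg

namespace H26.PcB

open H26.PcA

theorem exists_hyp' {A : Type*} [Group A] [IsSimpleGroup A] {Y : Type*} [Group Y] [Finite Y] (ρ : Y →* A)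
    (hρ : Function.Surjective ρ) (h2 : IsPGroup 2 ρ.ker) (hrk : RK Y)
    (hC : ∀ x : Y, (∀ q ∈ ρ.ker, x * q = q * x) → x ∈ ρ.ker) {σ τ ω : A} (h1 : σ ^ 5 = 1) (h3 : σ ≠ 1)
    (h4 : τ ^ 2 = 1) (h5 : τ * σ * τ⁻¹ * σ = 1) (h6 : ω ^ 3 = 1) (h7 : ω ≠ 1) : ∃ y t w : Y, Hyp ρ.ker y t w := by
  obtain ⟨y, hy, hy5⟩ := lift5 ρ hρ h2 h1
  obtain ⟨w, hw, hw3⟩ := lift3 ρ hρ h2 h6
  obtain ⟨t, ht⟩ := hρ τ
  have key : ∀ x : Y, ρ x ≠ 1 → ∃ q ∈ ρ.ker, x * q ≠ q * x := by
    intro x hx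
    by_contra hcon
    push Not at hcon
    exact hx (hC x hcon)
  refine ⟨y, t, w, inferInstance, h2, hrk, ?_, hy5, ?_, ?_, ?_, hw3, ?_⟩
  · intro M hM
    rcases (hM.map ρ hρ).eq_bot_or_eq_top with h8 | h8
    · left
      intro m hm
      have : ρ m ∈ M.map ρ := ⟨m, hm, rfl⟩
      rw [h8] at this
      exact this
    · right
      rw [← comap_map_eq, h8, comap_top]
  · exact nontriv inferInstance h2 (by norm_num) hy5 (key y (by rw [hy]; exact h3))
  · rw [MonoidHom.mem_ker, map_pow, ht, h4]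
  · rw [MonoidHom.mem_ker, map_mul, map_mul, map_mul, map_inv, ht, hy, h5]
  · exact nontriv inferInstance h2 (by norm_num) hw3 (key w (by rw [hw]; exact h7))

theorem main2 {X : Type*} [Group X] [Finite X] {Q : Subgroup X} {y t w : X} (h : Hyp Q y t w) (hs : sqs Q ≠ ⊥) :
    Nat.card (sqs Q) = 2 ∧ Nat.card Q = 32 ∧ Nat.card {x : ↥Q // x * x = 1} = 12 := by
  have h32 : Nat.card Q = 32 := by
    rcases h.main with ⟨h16, hsq⟩ | ⟨h32, -⟩
    · exfalso
      apply hs
      rw [eq_bot_iff]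
      unfold sqs
      rw [closure_le]
      rintro _ ⟨q, hq, rfl⟩
      exact hsq q hq
    · exact h32
  have h2 : Nat.card (sqs Q) = 2 := by
    have := h.V.1
    omega
  obtain ⟨-, -, h12, -, -⟩ := h.L1 hs (fun M _ hM => bot_or_of_card_two h2 M hM)
  exact ⟨h2, h32, h12⟩

theorem no32 {X : Type*} [Group X] [Finite X] {Q : Subgroup X} {y t w : X} (h : Hyp Q y t w) (hs : sqs Q ≠ ⊥)
    (hi : 120 < Q.index) : False := by
  classical
  haveI hQn := h.nQ
  haveI hZn := sqs_normal h.nQ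
  obtain ⟨h2, h32, h12⟩ := main2 h hs
  have hVfix := h.V.2
  set Z := sqs Q with hZ
  have hZQ : Z ≤ Q := sqs_le
  set π := QuotientGroup.mk' Z with hπ
  obtain ⟨z, hz, hz1⟩ := Z.bot_or_exists_ne_one.resolve_left hs
  have hzz : ∀ n ∈ Z, n = 1 ∨ n = z := fun n hn => by
    by_cases hn1 : n = 1
    · exact Or.inl hn1
    · exact Or.inr (eq_of_card_two h2 hn hz hn1 hz1)
  have hz2 : ∀ n ∈ Z, n * n = 1 := by
    intro n hn
    rcases hzz _ (mul_mem hn hn) with h1 | h1
    · exact h1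
    · rcases hzz n hn with h3 | h3
      · rw [h3, one_mul]
      · rw [h3] at h1
        have : z = 1 := mul_left_cancel (h1.trans (mul_one z).symm)
        exact absurd this hz1
  have hcen : ∀ n ∈ Z, ∀ x : X, x * n = n * x := by
    intro n hn x
    rcases hzz _ hn with h1 | h1
    · rw [h1, one_mul, mul_one]
    · rcases hzz _ (hZn.conj_mem n hn x) with h3 | h3
      · have : n = 1 := by
          have h4 : x * n = x := mul_inv_eq_one.1 h3
          exact mul_left_cancel (h4.trans (mul_one x).symm)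
        rw [this, one_mul, mul_one]
      · rw [← h1] at h3
        exact mul_inv_eq_iff_eq_mul.1 h3
  -- the ten elements
  let S : Set (X ⧸ Z) := {v | ∃ x ∈ Q, x * x = 1 ∧ x ∉ Z ∧ π x = v}
  have hpre : ((QuotientGroup.mk : X → X ⧸ Z) ⁻¹' S) = {x : X | x ∈ Q ∧ x * x = 1 ∧ x ∉ Z} := by
    ext x
    constructor
    · rintro ⟨x', hx'Q, hx'2, hx'Z, hx'⟩
      have h1 : x'⁻¹ * x ∈ Z := QuotientGroup.eq.1 hx'
      have h3 : x = x' * (x'⁻¹ * x) := by group
      refine ⟨?_, ?_, ?_⟩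
      · rw [h3]; exact mul_mem hx'Q (hZQ h1)
      · have h4 := hcen _ h1 x'
        have h5 := hz2 _ h1
        set n := x'⁻¹ * x
        rw [h3]
        calc x' * n * (x' * n) = x' * (n * x') * n := by group
          _ = x' * (x' * n) * n := by rw [← h4]
          _ = (x' * x') * (n * n) := by group
          _ = 1 := by rw [hx'2, h5, one_mul]
      · intro h4
        apply hx'Z
        have h5 : x' = x * (x'⁻¹ * x)⁻¹ := by group
        rw [h5]
        exact mul_mem h4 (inv_mem h1)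
    · rintro ⟨h1, h3, h4⟩
      exact ⟨x, h1, h3, h4, rfl⟩
  have hc10 : Nat.card {x : X | x ∈ Q ∧ x * x = 1 ∧ x ∉ Z} = 10 := by
    have e1 : {x : ↥Q // x * x = 1} ≃ ({x | x ∈ Q ∧ x * x = 1} : Set X) :=
      { toFun := fun x => ⟨x.1.1, x.1.2, congrArg Subtype.val x.2⟩
        invFun := fun x => ⟨⟨x.1, x.2.1⟩, Subtype.ext x.2.2⟩
        left_inv := fun x => rfl
        right_inv := fun x => rfl }
    rw [Nat.card_congr e1, Nat.card_coe_set_eq] at h12
    rw [Nat.card_coe_set_eq]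
    have h3 : {x : X | x ∈ Q ∧ x * x = 1 ∧ x ∉ Z} = {x | x ∈ Q ∧ x * x = 1} \ (Z : Set X) := by
      ext x
      constructor
      · rintro ⟨a, b, c⟩; exact ⟨⟨a, b⟩, c⟩
      · rintro ⟨⟨a, b⟩, c⟩; exact ⟨a, b, c⟩
    have h4 : (Z : Set X) ⊆ {x | x ∈ Q ∧ x * x = 1} := fun x hx => ⟨hZQ hx, hz2 x hx⟩
    have h5 := Set.ncard_sdiff_add_ncard_of_subset h4 (Set.toFinite _)
    rw [← h3, h12] at h5
    have h6 : (Z : Set X).ncard = 2 := by rw [← Nat.card_coe_set_eq]; exact h2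
    omega
  have hS5 : Nat.card S = 5 := by
    have e2 := QuotientGroup.preimageMkEquivSubgroupProdSet Z S
    have h6 := Nat.card_congr e2
    rw [hpre, hc10, Nat.card_prod] at h6
    have h7 : Nat.card (↥Z) = 2 := h2
    rw [h7] at h6
    omega
  letI act : MulAction X S :=
    { smul := fun g v => ⟨π g * v.1 * (π g)⁻¹, by
        obtain ⟨x, hxQ, hx2, hxZ, hx⟩ := v.2
        refine ⟨g * x * g⁻¹, hQn.conj_mem x hxQ g, ?_, ?_, ?_⟩
        · calc g * x * g⁻¹ * (g * x * g⁻¹) = g * (x * x) * g⁻¹ := by group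
            _ = 1 := by rw [hx2]; group
        · intro h1
          apply hxZ
          have := hZn.conj_mem _ h1 g⁻¹
          convert this using 1
          group
        · rw [map_mul, map_mul, map_inv, hx]⟩
      one_smul := fun v => Subtype.ext (by
        show π 1 * v.1 * (π 1)⁻¹ = v.1
        rw [map_one, one_mul, inv_one, mul_one])
      mul_smul := fun a b v => Subtype.ext (by
        show π (a * b) * v.1 * (π (a * b))⁻¹ = π a * (π b * v.1 * (π b)⁻¹) * (π a)⁻¹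
        rw [map_mul]; group) }
  have hact : ∀ (g : X) (v : S), ((g • v : S) : X ⧸ Z) = π g * v.1 * (π g)⁻¹ := fun g v => rfl
  set φ := MulAction.toPermHom X S with hφ
  have hker : ¬ φ.ker ≤ Q := by
    intro h1
    have h3 := Subgroup.index_antitone h1
    rw [Subgroup.index_ker] at h3
    have h4 : Nat.card φ.range ≤ 120 := by
      have h5 := Subgroup.card_le_card_group φ.range
      haveI := Fintype.ofFinite S
      rw [Nat.card_eq_fintype_card (α := Equiv.Perm S), Fintype.card_perm, ← Nat.card_eq_fintype_card, hS5] at h5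
      exact h5
    omega
  have htop := (h.simp φ.ker inferInstance).resolve_left hker
  have hy : y ∈ φ.ker ⊔ Q := by rw [htop]; trivial
  obtain ⟨k, hk, q, hq, hkq⟩ := (Subgroup.mem_sup_of_normal_right).1 hy
  have hne : (S : Set (X ⧸ Z)).Nonempty := by
    rw [Set.nonempty_iff_ne_empty]
    intro h1
    rw [Nat.card_coe_set_eq, h1, Set.ncard_empty] at hS5
    omega
  obtain ⟨v, x, hxQ, hx2, hxZ, hx⟩ := hne
  apply hxZ
  apply hVfix x hxQ
  have h3 : (k • (⟨v, x, hxQ, hx2, hxZ, hx⟩ : S) : S) = ⟨v, x, hxQ, hx2, hxZ, hx⟩ := by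
    rw [MonoidHom.mem_ker] at hk
    have := Equiv.Perm.ext_iff.1 hk ⟨v, x, hxQ, hx2, hxZ, hx⟩
    exact this
  have h4 : π k * v * (π k)⁻¹ = v := by
    have := congrArg Subtype.val h3
    rwa [hact] at this
  have h5 : π q * v * (π q)⁻¹ = v := by
    rw [← hx, ← map_inv, ← map_mul, ← map_mul]
    apply QuotientGroup.eq.2
    have := comm_mem (Q := Q) hq (inv_mem hxQ)
    rw [← hZ] at this
    have h6 : (q * x * q⁻¹)⁻¹ * x = q * x⁻¹ * q⁻¹ * (x⁻¹)⁻¹ := by group
    rw [h6]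
    exact this
  have h6 : π y * v * (π y)⁻¹ = v := by
    rw [← hkq, map_mul]
    calc π k * π q * v * (π k * π q)⁻¹ = π k * (π q * v * (π q)⁻¹) * (π k)⁻¹ := by group
      _ = v := by rw [h5, h4]
  rw [← hx, ← map_inv, ← map_mul, ← map_mul] at h6
  have h7 := QuotientGroup.eq.1 h6
  have h8 : y * x * y⁻¹ * x⁻¹ = x * ((y * x * y⁻¹)⁻¹ * x)⁻¹ * x⁻¹ := by group
  rw [h8]
  exact hZn.conj_mem _ (inv_mem h7) x

theorem a6_elts : ∃ σ τ ω : ↥(alternatingGroup (Fin 6)), σ ^ 5 = 1 ∧ σ ≠ 1 ∧ τ ^ 2 = 1 ∧ τ * σ * τ⁻¹ * σ = 1 ∧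
    ω ^ 3 = 1 ∧ ω ≠ 1 := by
  refine ⟨⟨Equiv.swap 0 1 * Equiv.swap 1 2 * Equiv.swap 2 3 * Equiv.swap 3 4, by
      rw [Equiv.Perm.mem_alternatingGroup]; decide⟩,
    ⟨Equiv.swap 1 4 * Equiv.swap 2 3, by rw [Equiv.Perm.mem_alternatingGroup]; decide⟩,
    ⟨Equiv.swap 0 1 * Equiv.swap 1 2, by rw [Equiv.Perm.mem_alternatingGroup]; decide⟩, ?_, ?_, ?_, ?_, ?_, ?_⟩
  all_goals decide

theorem no_ext {Y : Type*} [Group Y] [Finite Y] (ρ : Y →* Equiv.Perm (Fin 6))
    (hρ : Function.Surjective ρ) (h2 : IsPGroup 2 ρ.ker) (hrk : RK Y)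
    (hC : ∀ x : Y, (∀ q ∈ ρ.ker, x * q = q * x) → x ∈ ρ.ker) : False := by
  set Y6 := (alternatingGroup (Fin 6)).comap ρ with hY6
  let ρ6 : ↥Y6 →* ↥(alternatingGroup (Fin 6)) := ρ.subgroupComap _
  have hρ6 : Function.Surjective ρ6 := MonoidHom.subgroupComap_surjective_of_surjective _ _ hρ
  have hle : ρ.ker ≤ Y6 := by
    intro x hx
    rw [hY6, mem_comap, MonoidHom.mem_ker.1 hx]
    exact one_mem _
  have hker : ρ6.ker = ρ.ker.subgroupOf Y6 := by
    ext x
    rw [MonoidHom.mem_ker, mem_subgroupOf, MonoidHom.mem_ker]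
    constructor
    · intro h
      exact congrArg Subtype.val h
    · intro h
      exact Subtype.ext h
  have eqv : ↥ρ6.ker ≃* ↥ρ.ker := (MulEquiv.subgroupCongr hker).trans (Subgroup.subgroupOfEquivOfLe hle)
  have h26 : IsPGroup 2 ρ6.ker := h2.of_equiv eqv.symm
  have hrk6 : RK ↥Y6 := by
    intro N H h1 h3 h4
    have h5 := hrk (N.map Y6.subtype) (H.map Y6.subtype) (map_mono h1) (by
      rintro _ ⟨x, hx, rfl⟩ _ ⟨y, hy, rfl⟩
      exact ⟨_, h3 x hx y hy, by simp⟩) (by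
      rintro _ ⟨x, hx, rfl⟩
      exact ⟨_, h4 x hx, by simp⟩)
    rwa [relIndex_map_map_of_injective _ _ Y6.subtype_injective] at h5
  haveI hsimp : IsSimpleGroup ↥(alternatingGroup (Fin 6)) :=
    alternatingGroup.isSimpleGroup (by rw [Nat.card_eq_fintype_card, Fintype.card_fin]; norm_num)
  obtain ⟨σ, τ, ω, h1, h3, h4, h5, h6, h7⟩ := a6_elts
  obtain ⟨y, t, w, h⟩ := exists_hyp' ρ6 hρ6 h26 hrk6 (by
    intro x hx
    rw [hker, mem_subgroupOf]
    apply hC
    intro q hq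
    have := hx ⟨q, hle hq⟩ (by rw [hker, mem_subgroupOf]; exact hq)
    exact congrArg Subtype.val this) h1 h3 h4 h5 h6 h7
  by_cases hs : sqs ρ6.ker = ⊥
  · have hsq := sqs_bot hs
    have h16 : Nat.card ρ6.ker = 16 := by rw [h.V.1, hs, Subgroup.card_bot, one_mul]
    refine S6.no_S6 (ρ := ρ) ⟨hρ, ?_, by rw [← Nat.card_congr eqv.toEquiv, h16], hrk, hC⟩
    intro v hv
    have := hsq ⟨v, hle hv⟩ (by rw [hker, mem_subgroupOf]; exact hv)
    exact congrArg Subtype.val this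
  · refine no32 h hs ?_
    have h8 : ρ6.ker.index = 360 := by
      rw [Subgroup.index_ker, MonoidHom.range_eq_top.2 hρ6, Subgroup.card_top, nat_card_alternatingGroup,
        Nat.card_eq_fintype_card, Fintype.card_fin]
      rfl
    rw [h8]
    norm_num

theorem no_X {X : Type*} [Group X] [Finite X] (hcen : Subgroup.centralizer (pCore 2 X : Set X) ≤ pCore 2 X)
    (h4 : Cfsg.SectionalPRankLE 2 4 X) (ι : Equiv.Perm (Fin 6) →* X ⧸ pCore 2 X) (hι : Function.Injective ι) : False := by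
  haveI : Fact (Nat.Prime 2) := ⟨Nat.prime_two⟩
  set P := Cfsg.pCore 2 X with hP
  set A := ι.range with hA
  let e : ↥A ≃* Equiv.Perm (Fin 6) := (MonoidHom.ofInjective hι).symm
  have hPp : IsPGroup 2 ↥P := H59.CharP.isPGroup_pCore X
  have hPA : P ≤ A.comap (QuotientGroup.mk' P) := QuotientGroup.le_comap_mk' P A
  let ρ : ↥(A.comap (QuotientGroup.mk' P)) →* Equiv.Perm (Fin 6) :=
    e.toMonoidHom.comp ((QuotientGroup.mk' P).subgroupComap A)
  have hρ : Function.Surjective ρ :=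
    e.surjective.comp (MonoidHom.subgroupComap_surjective_of_surjective _ _ (QuotientGroup.mk'_surjective P))
  have hker : ρ.ker = P.subgroupOf (A.comap (QuotientGroup.mk' P)) := by
    ext x
    rw [MonoidHom.mem_ker, mem_subgroupOf]
    show e _ = 1 ↔ _
    rw [map_eq_one_iff e e.injective]
    constructor
    · intro h
      exact (QuotientGroup.eq_one_iff _).1 (congrArg Subtype.val h)
    · intro h
      exact Subtype.ext ((QuotientGroup.eq_one_iff _).2 h)
  have eqv : ↥ρ.ker ≃* ↥P := (MulEquiv.subgroupCongr hker).trans (Subgroup.subgroupOfEquivOfLe hPA)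
  have h2 : IsPGroup 2 ρ.ker := hPp.of_equiv eqv.symm
  have hrk : RK ↥(A.comap (QuotientGroup.mk' P)) := by
    have := H76.SecRank.sectionalPRankLE_iff.1 (H76.SecRank.subgroup h4 (A.comap (QuotientGroup.mk' P)))
    intro N H h1 h2 h3
    have := this N H h1 h2 h3
    norm_num at this
    exact this
  refine no_ext ρ hρ h2 hrk ?_
  intro x hx
  rw [hker, mem_subgroupOf]
  apply hcen
  rw [mem_centralizer_iff]
  intro q hq
  have := hx ⟨q, hPA hq⟩ (by rw [hker, mem_subgroupOf]; exact hq)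
  exact (congrArg Subtype.val this).symm

/-- The sign homomorphism into the symmetric group of degree two. -/
def kk : ℤˣ →* Equiv.Perm (Fin 2) where
  toFun u := if u = 1 then 1 else Equiv.swap 0 1
  map_one' := by simp
  map_mul' := by decide

theorem sign_kk : ∀ u : ℤˣ, Equiv.Perm.sign (kk u) = u := by decide

theorem exists_s7 : ∃ ι : Equiv.Perm (Fin 6) →* Equiv.Perm (Fin 7), Function.Injective ι :=
  ⟨Equiv.Perm.viaEmbeddingHom (Fin.castLEEmb (by norm_num : 6 ≤ 7)), Equiv.Perm.viaEmbeddingHom_injective _⟩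

theorem exists_a8 : ∃ ι : Equiv.Perm (Fin 6) →* ↥(alternatingGroup (Fin 8)), Function.Injective ι := by
  let g : Equiv.Perm (Fin 6) →* Equiv.Perm (Fin 6 ⊕ Fin 2) :=
    (Equiv.Perm.sumCongrHom (Fin 6) (Fin 2)).comp ((MonoidHom.id _).prod (kk.comp Equiv.Perm.sign))
  have hg : ∀ σ, g σ ∈ alternatingGroup (Fin 6 ⊕ Fin 2) := by
    intro σ
    rw [Equiv.Perm.mem_alternatingGroup]
    show Equiv.Perm.sign (Equiv.Perm.sumCongr σ (kk (Equiv.Perm.sign σ))) = 1
    rw [Equiv.Perm.sign_sumCongr, sign_kk, Int.units_mul_self]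
  have hgi : Function.Injective g := by
    refine Equiv.Perm.sumCongrHom_injective.comp ?_
    intro a b hab
    exact congrArg Prod.fst hab
  let e : ↥(alternatingGroup (Fin 6 ⊕ Fin 2)) ≃* ↥(alternatingGroup (Fin 8)) := Equiv.altCongrHom finSumFinEquiv
  refine ⟨e.toMonoidHom.comp (g.codRestrict _ hg), e.injective.comp ?_⟩
  intro a b hab
  exact hgi (congrArg Subtype.val hab)

theorem part_two {X : Type*} [Group X] [Finite X] (hcen : Subgroup.centralizer (pCore 2 X : Set X) ≤ pCore 2 X)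
    (h4 : Cfsg.SectionalPRankLE 2 4 X) :
    ¬ (Nonempty (X ⧸ Cfsg.pCore 2 X ≃* Equiv.Perm (Fin 6)) ∨ Nonempty (X ⧸ Cfsg.pCore 2 X ≃* Equiv.Perm (Fin 7)) ∨
            Nonempty (X ⧸ Cfsg.pCore 2 X ≃* ↥(alternatingGroup (Fin 8)))) := by
  rintro (⟨⟨e⟩⟩ | ⟨⟨e⟩⟩ | ⟨⟨e⟩⟩)
  · exact no_X hcen h4 e.symm.toMonoidHom e.symm.injective
  · obtain ⟨ι, hι⟩ := exists_s7
    exact no_X hcen h4 (e.symm.toMonoidHom.comp ι) (e.symm.injective.comp hι)
  · obtain ⟨ι, hι⟩ := exists_a8
    exact no_X hcen h4 (e.symm.toMonoidHom.comp ι) (e.symm.injective.comp hι)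

end H26.PcB
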