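import Mathlib
import Cfsg.Prelude.Def_TwoFusion
import Cfsg.Prelude.Def_IsolatedElements
import Cfsg.Prelude.Def_CaseTheorems
import Cfsg.Agent.Lib.H38.Goldschmidt
import Cfsg.Agent.Lib.H38.QuadWeak
import Cfsg.Agent.Lib.H28.Rank
import Cfsg.Agent.Lib.H2.Residual
import Cfsg.Agent.Lib.H25.Wr2
import Cfsg.Agent.Lib.H25.QD5
import Cfsg.Agent.Lib.H26.ZStarUse

/-!
Groups of `2`-rank at most two with an isolated involution: `Z(S)` is isolated in `S`; quasi-dihedral and wreathed Sylow
`2`-subgroups.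
-/

set_option autoImplicit false
set_option linter.unusedSectionVars false

open Subgroup Cfsg H38.Basic

universe u

namespace H26.RankTwoIso

variable {X : Type*} [Group X] [Finite X]

/-- An odd order element normalizing a `2`-subgroup `U` centralizes `Z(S)`, if `z ∈ Z(S)` is isolated. -/
theorem odd_centralizes [Fact (Nat.Prime 2)] {S : Subgroup X} (hS : IsPGroup 2 S)
    (hr : PRankLE 2 2 S) {z : X} (hz : IsIsolatedInvolution z) {U : Subgroup X} (hU : U ≤ S)
    (hzU : z ∈ U ⊓ Subgroup.centralizer (U : Set X)) {g : X} (hg : g ∈ Subgroup.normalizer (U : Set X))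
    (ho : (orderOf g).Coprime 2) {v : X} (hv : v ∈ U ⊓ Subgroup.centralizer (U : Set X)) :
    g * v = v * g := by
  set V := U ⊓ Subgroup.centralizer (U : Set X) with hV
  have hVS : V ≤ S := inf_le_left.trans hU
  have hVab : ∀ a ∈ V, ∀ b ∈ V, a * b = b * a := by
    intro a ha b hb
    exact (Subgroup.mem_centralizer_iff.mp (Subgroup.mem_inf.mp hb).2 a (Subgroup.mem_inf.mp ha).1)
  have hgV : g ∈ Subgroup.normalizer (V : Set X) := by
    rw [H38.Basic.mem_normalizer_iff', hV, conj_inf, conj_centralizer',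
      H38.Basic.mem_normalizer_iff'.mp hg]
  refine H38.QuadWeak.centralizes_of_omega (p := 2) (hS.to_le hVS) (V := V) (y := g) ?_ hgV ho ?_ v hv
  · intro a ha
    rw [Subgroup.mem_centralizer_iff]
    intro b hb
    exact hVab b hb a ha
  · intro v hv hv2
    have hzz := H5.Dihedral.mul_self hz.1
    have hz1 : z ≠ 1 := fun h => by have := hz.1; rw [h, orderOf_one] at this; omega
    have hconjz : g * z * g⁻¹ = z := by
      apply hz.2 g
      have h1 : g * z * g⁻¹ ∈ V := (Subgroup.mem_normalizer_iff.mp hgV z).mp hzU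
      exact hVab z hzU _ h1
    have hgz : g * z = z * g := mul_inv_eq_iff_eq_mul.mp hconjz
    by_cases hv1 : v = 1
    · rw [hv1, mul_one, one_mul]
    by_cases hvz : v = z
    · rw [hvz]; exact hgz
    -- the elementary abelian subgroup
    let E : Subgroup X :=
      { carrier := {x | x ∈ V ∧ x ^ 2 = 1}
        one_mem' := ⟨V.one_mem, one_pow 2⟩
        mul_mem' := by
          rintro a b ⟨ha, ha2⟩ ⟨hb, hb2⟩
          refine ⟨V.mul_mem ha hb, ?_⟩
          have : Commute a b := hVab a ha b hb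
          rw [this.mul_pow, ha2, hb2, one_mul]
        inv_mem' := by
          rintro a ⟨ha, ha2⟩
          exact ⟨V.inv_mem ha, by rw [inv_pow, ha2, inv_one]⟩ }
    have hEc : Nat.card E ≤ 4 := by
      have := H28.Rank.pRankLE_iff.mp hr E (fun x hx => hVS hx.1)
        (H28.Rank.elemAb_iff.mpr ⟨fun a ha b hb => hVab a ha.1 b hb.1, fun a ha => ha.2⟩)
      simpa using this
    set w := g * v * g⁻¹ with hw
    have hwE : w ∈ E := by
      refine ⟨(Subgroup.mem_normalizer_iff.mp hgV v).mp hv, ?_⟩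
      rw [hw, conj_pow, hv2]; group
    have hvv : v * v = 1 := by rw [← pow_two]; exact hv2
    have hzv : z * v = v * z := hVab z hzU v hv
    have hvE : v ∈ E := ⟨hv, hv2⟩
    have hzE : z ∈ E := ⟨hzU, by rw [pow_two]; exact hzz⟩
    have hw1 : w ≠ 1 := fun h => hv1 (by
      have : v = g⁻¹ * w * g := by rw [hw]; group
      rw [this, h]; group)
    have hwz : w ≠ z := fun h => hvz (by
      have : v = g⁻¹ * w * g := by rw [hw]; group
      rw [this, h, mul_assoc, ← hgz]; group)
    have hcase : w = v ∨ w = z * v := by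
      by_contra hcon
      push Not at hcon
      have hsub : ({1, z, v, z * v, w} : Set X) ⊆ (E : Set X) := by
        intro x hx
        simp only [Set.mem_insert_iff, Set.mem_singleton_iff] at hx
        rcases hx with rfl | rfl | rfl | rfl | rfl
        · exact E.one_mem
        · exact hzE
        · exact hvE
        · exact E.mul_mem hzE hvE
        · exact hwE
      have hzv1 : z * v ≠ 1 := fun h => hvz (by
        have : v = z * (z * v) := by rw [← mul_assoc, hzz, one_mul]
        rw [this, h, mul_one])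
      have hzvz : z * v ≠ z := fun h => hv1 (by simpa using h)
      have hzvv : z * v ≠ v := fun h => hz1 (by simpa using h)
      have h5 : ({1, z, v, z * v, w} : Set X).ncard = 5 := by
        rw [Set.ncard_insert_of_notMem, Set.ncard_insert_of_notMem, Set.ncard_insert_of_notMem,
          Set.ncard_pair hcon.2.symm]
        · simp only [Set.mem_insert_iff, Set.mem_singleton_iff, not_or]
          exact ⟨hzvv.symm, hcon.1.symm⟩
        · simp only [Set.mem_insert_iff, Set.mem_singleton_iff, not_or]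
          exact ⟨fun h => hvz h.symm, hzvz.symm, hwz.symm⟩
        · simp only [Set.mem_insert_iff, Set.mem_singleton_iff, not_or]
          exact ⟨hz1.symm, fun h => hv1 h.symm, hzv1.symm, hw1.symm⟩
      have h6 := Set.ncard_le_ncard hsub (Set.toFinite _)
      rw [h5, ← Nat.card_coe_set_eq] at h6
      have h7 : Nat.card (E : Set X) = Nat.card E := rfl
      omega
    rcases hcase with h | h
    · exact mul_inv_eq_iff_eq_mul.mp h
    · -- `g ^ 2` centralizes `v`
      have h2 : g ^ 2 * v = v * g ^ 2 := by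
        have h3 : g * v = z * v * g := mul_inv_eq_iff_eq_mul.mp h
        calc g ^ 2 * v = g * (g * v) := by rw [pow_two, mul_assoc]
          _ = g * (z * v * g) := by rw [h3]
          _ = (g * z) * (v * g) := by group
          _ = z * (g * v) * g := by rw [hgz]; group
          _ = (z * z) * v * (g * g) := by rw [h3]; group
          _ = v * g ^ 2 := by rw [hzz, one_mul, pow_two]
      have h3 : g ∈ Subgroup.zpowers (g ^ 2) := by
        rw [mem_zpowers_pow_iff]
        exact ho.symm
      obtain ⟨k, hk⟩ := Subgroup.mem_zpowers_iff.mp h3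
      have h4 : Commute (g ^ 2) v := h2
      have h5 := h4.zpow_left k
      rw [hk] at h5
      exact h5

theorem normalizer_le (S : Sylow 2 X) (hr : PRankLE 2 2 (S : Subgroup X)) {z : X} (hzS : z ∈ S)
    (hz : IsIsolatedInvolution z) {U : Subgroup X} (hU : U ≤ (S : Subgroup X))
    (hsyl : IsSyl 2 ((S : Subgroup X) ⊓ Subgroup.normalizer (U : Set X))
      (Subgroup.normalizer (U : Set X)))
    (hcen : (S : Subgroup X) ⊓ Subgroup.centralizer (U : Set X) ≤ U) :
    Subgroup.normalizer (U : Set X) ≤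
      Subgroup.centralizer ((Subgroup.center (S : Subgroup X)).map (S : Subgroup X).subtype : Set X) := by
  have : Fact (Nat.Prime 2) := ⟨Nat.prime_two⟩
  set N := Subgroup.normalizer (U : Set X) with hN
  set Z := (Subgroup.center (S : Subgroup X)).map (S : Subgroup X).subtype with hZ
  have hZS : Z ≤ S := Subgroup.map_subtype_le _
  have hZc : ∀ c ∈ Z, ∀ s ∈ (S : Subgroup X), s * c = c * s := by
    rintro _ ⟨c, hc, rfl⟩ s hs
    exact congrArg Subtype.val (Subgroup.mem_center_iff.mp hc ⟨s, hs⟩)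
  have hZV : Z ≤ U ⊓ Subgroup.centralizer (U : Set X) := by
    intro c hc
    have h1 : c ∈ Subgroup.centralizer (U : Set X) := by
      rw [Subgroup.mem_centralizer_iff]
      intro u hu
      exact hZc c hc u (hU hu)
    exact Subgroup.mem_inf.mpr ⟨hcen (Subgroup.mem_inf.mpr ⟨hZS hc, h1⟩), h1⟩
  have hzZ : z ∈ Z := by
    refine ⟨⟨z, hzS⟩, ?_, rfl⟩
    rw [SetLike.mem_coe, Subgroup.mem_center_iff]
    rintro ⟨s, hs⟩
    apply Subtype.ext
    exact Subgroup.mem_centralizer_singleton_iff.mp
      (H55.Isolated.le_centralizer (p := 2) z hz.2 (S : Subgroup X) S.2 hzS hs)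
  set D := (Subgroup.centralizer (Z : Set X)).subgroupOf N with hD
  have hres : pResidual 2 N ≤ D := by
    rw [pResidual, Subgroup.closure_le]
    intro g hg
    rw [SetLike.mem_coe, hD, Subgroup.mem_subgroupOf, Subgroup.mem_centralizer_iff]
    intro c hc
    have hg' : (orderOf (g : X)).Coprime 2 := by rw [Subgroup.orderOf_coe]; exact hg
    exact (odd_centralizes S.2 hr hz hU (hZV hzZ) g.2 hg' (hZV hc)).symm
  have hT : ((S : Subgroup X) ⊓ N).subgroupOf N ≤ D := by
    intro t ht
    rw [hD, Subgroup.mem_subgroupOf, Subgroup.mem_centralizer_iff]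
    intro c hc
    exact (hZc c hc _ (Subgroup.mem_inf.mp (Subgroup.mem_subgroupOf.mp ht)).1).symm
  have htop := H2.Residual.sup_residual_of_not_dvd_index (p := 2)
    (((S : Subgroup X) ⊓ N).subgroupOf N) hsyl.2.2
  have h1 : D = ⊤ := by
    rw [eq_top_iff, ← htop]
    exact sup_le hT hres
  intro g hg
  have h2 : (⟨g, hg⟩ : N) ∈ D := by rw [h1]; exact Subgroup.mem_top _
  exact Subgroup.mem_subgroupOf.mp h2

/-- in a group of `2`-rank at most two with an isolated involution in `S`, the elements of `Z(S)` are isolated in `S`. -/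
theorem isoIn (S : Sylow 2 X) (hr : PRankLE 2 2 (S : Subgroup X)) {z : X} (hzS : z ∈ S)
    (hz : IsIsolatedInvolution z) :
    H26.ZStarUse.IsoIn ((Subgroup.center (S : Subgroup X)).map (S : Subgroup X).subtype)
      (S : Subgroup X) := by
  have : Fact (Nat.Prime 2) := ⟨Nat.prime_two⟩
  set Z := (Subgroup.center (S : Subgroup X)).map (S : Subgroup X).subtype with hZ
  have hZS : Z ≤ S := Subgroup.map_subtype_le _
  let R : Set X → X → Prop := fun A g =>
    ∀ a ∈ A, (a ∈ Z → g * a * g⁻¹ = a) ∧ (g * a * g⁻¹ ∈ Z → g * a * g⁻¹ = a)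
  have hR : H38.Alperin.IsFusionRel R := by
    refine ⟨?_, ?_, ?_⟩
    · intro A g h h1 h2 a ha
      have e : h * g * a * (h * g)⁻¹ = h * (g * a * g⁻¹) * h⁻¹ := by group
      rw [e]
      have h3 := h2 _ (H38.Alperin.mem_cj (g := g) ha)
      have h4 := h1 a ha
      refine ⟨fun haZ => ?_, fun hZ' => ?_⟩
      · have h5 := h4.1 haZ
        rw [h5] at h3 ⊢
        exact h3.1 haZ
      · have h5 := h3.2 hZ'
        rw [h5] at hZ' ⊢
        exact h4.2 hZ'
    · rintro A g h1 _ ⟨a, ha, rfl⟩
      have h4 := h1 a ha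
      have e : g⁻¹ * (g * a * g⁻¹) * g⁻¹⁻¹ = a := by group
      simp only [e]
      exact ⟨fun h => (h4.2 h).symm, fun h => (h4.1 h).symm⟩
    · intro A B g hAB h a ha
      exact h a (hAB ha)
  have hcent : ∀ (A : Set X) (c : X), A ⊆ ((S : Subgroup X) : Set X) →
      c ∈ Subgroup.centralizer A → R A c := by
    intro A c _ hc a ha
    have h1 := Subgroup.mem_centralizer_iff.mp hc a ha
    have h2 : c * a * c⁻¹ = a := by rw [← h1]; group
    exact ⟨fun _ => h2, fun _ => h2⟩
  have hag := H38.Goldschmidt.alperin_goldschmidt S hR hcent (by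
    intro U hU hsyl hcen _ x hx a ha
    have hxc := normalizer_le S hr hzS hz hU hsyl hcen hx
    rw [Subgroup.mem_centralizer_iff] at hxc
    refine ⟨fun haZ => ?_, fun hZ' => ?_⟩
    · rw [← hxc a haZ]; group
    · have h1 := hxc _ hZ'
      have h2 : a = x⁻¹ * (x * a * x⁻¹) * x := by group
      conv_rhs => rw [h2]
      rw [mul_assoc x⁻¹, h1]; group)
  intro c hc x hx
  have h1 := hag (Subgroup.zpowers c) (by rw [Subgroup.zpowers_le]; exact hZS hc) x (by
    rw [MonoidHom.map_zpowers, Subgroup.zpowers_le]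
    exact hx)
  exact (h1 c (Subgroup.mem_zpowers c)).1 hc

theorem wreathed_rank {S : Type*} [Group S] [Finite S] (h : IsWreathed S) : PRankLE 2 2 S := by
  obtain ⟨m, x, y, z, -, hd⟩ := H25.Wr.exists_data h
  intro A hA hA2
  have hcomm : ∀ a ∈ A, ∀ b ∈ A, a * b = b * a := H28.Rank.mulComm_iff.mp hA
  have hsq : ∀ a ∈ A, a * a = 1 := fun a ha => by rw [← pow_two]; exact hA2 a ha
  by_cases hAU : ∀ a ∈ A, a ∈ H25.Wr.U hd
  · have hsub : (A : Set S) ⊆ {1, H25.Wr.A x y (2 * 2 ^ m) 0, H25.Wr.A x y 0 (2 * 2 ^ m),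
        H25.Wr.A x y (2 * 2 ^ m) (2 * 2 ^ m)} := by
      intro a ha
      obtain ⟨i, j, rfl⟩ := hAU a ha
      rcases H25.Wr.inv_cases hd (hsq _ ha) with h1 | h1 | h1 | h1 <;> rw [h1] <;> simp
    have h1 := Set.ncard_le_ncard hsub (Set.toFinite _)
    have h2 : ({1, H25.Wr.A x y (2 * 2 ^ m) 0, H25.Wr.A x y 0 (2 * 2 ^ m),
        H25.Wr.A x y (2 * 2 ^ m) (2 * 2 ^ m)} : Set S).ncard ≤ 4 := by
      refine (Set.ncard_insert_le _ _).trans ?_
      have := (Set.ncard_insert_le (H25.Wr.A x y (2 * 2 ^ m) 0)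
        ({H25.Wr.A x y 0 (2 * 2 ^ m), H25.Wr.A x y (2 * 2 ^ m) (2 * 2 ^ m)} : Set S))
      have h3 := (Set.ncard_insert_le (H25.Wr.A x y 0 (2 * 2 ^ m))
        ({H25.Wr.A x y (2 * 2 ^ m) (2 * 2 ^ m)} : Set S))
      rw [Set.ncard_singleton] at h3
      omega
    rw [← Nat.card_coe_set_eq] at h1
    have h3 : Nat.card (A : Set S) = Nat.card A := rfl
    omega
  · push Not at hAU
    obtain ⟨g, hgA, hgU⟩ := hAU
    obtain ⟨i, j, rfl⟩ : ∃ i j : ℤ, g = H25.Wr.A x y i j * z := by
      rcases H25.Wr.cases hd g with ⟨i, j, rfl⟩ | h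
      · exact absurd (H25.Wr.mem_U_A hd i j) hgU
      · exact h
    set g := H25.Wr.A x y i j * z with hg
    set e := H25.Wr.A x y (2 * 2 ^ m) (2 * 2 ^ m) with he
    have hUcase : ∀ a ∈ A, a ∈ H25.Wr.U hd → a = 1 ∨ a = e := by
      intro a ha haU
      obtain ⟨k, l, rfl⟩ := haU
      have h1 := hcomm _ hgA _ ha
      have h2 : g * H25.Wr.A x y k l * g⁻¹ = H25.Wr.A x y l k := H25.Wr.conj_Az_A hd i j k l
      have h3 : g * H25.Wr.A x y k l * g⁻¹ = H25.Wr.A x y k l := by rw [h1]; group
      rw [h2, H25.Wr.A_eq_iff hd] at h3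
      have hn := H25.Wr.not_4r_dvd_2r hd
      have h5 := (H25.Wr.sq_A hd k l).mp (hsq _ ha)
      rcases H25.Wr.two_cases hd h5.1 with h6 | h6 <;> rcases H25.Wr.two_cases hd h5.2 with h7 | h7
      · left
        rw [H25.Wr.A_eq_one_iff hd]; exact ⟨h6, h7⟩
      · exfalso
        apply hn
        have h8 := dvd_sub (dvd_add h3.1 h6) h7
        have h9 : l - k + k - (l - 2 * 2 ^ m) = 2 * 2 ^ m := by ring
        rwa [h9] at h8
      · exfalso
        apply hn
        have h8 := dvd_sub (dvd_sub h7 h3.1) h6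
        have h9 : l - (l - k) - (k - 2 * 2 ^ m) = 2 * 2 ^ m := by ring
        rwa [h9] at h8
      · right
        rw [he, H25.Wr.A_eq_iff hd]; exact ⟨h6, h7⟩
    have hsub : (A : Set S) ⊆ {1, e, g, g * e} := by
      intro a ha
      by_cases haU : a ∈ H25.Wr.U hd
      · rcases hUcase a ha haU with h1 | h1 <;> rw [h1] <;> simp
      · have h1 : g * a ∈ H25.Wr.U hd := by
          obtain ⟨k, l, rfl⟩ : ∃ k l : ℤ, a = H25.Wr.A x y k l * z := by
            rcases H25.Wr.cases hd a with ⟨k, l, rfl⟩ | h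
            · exact absurd (H25.Wr.mem_U_A hd k l) haU
            · exact h
          rw [hg, H25.Wr.mul_zz hd]
          exact H25.Wr.mem_U_A hd _ _
        have h2 : a = g * (g * a) := by rw [← mul_assoc, hsq g hgA, one_mul]
        rcases hUcase _ (A.mul_mem hgA ha) h1 with h3 | h3
        · rw [h2, h3]; simp
        · rw [h2, h3]; simp
    have h1 := Set.ncard_le_ncard hsub (Set.toFinite _)
    have h2 : ({1, e, g, g * e} : Set S).ncard ≤ 4 := by
      refine (Set.ncard_insert_le _ _).trans ?_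
      have := (Set.ncard_insert_le e ({g, g * e} : Set S))
      have h3 := (Set.ncard_insert_le g ({g * e} : Set S))
      rw [Set.ncard_singleton] at h3
      omega
    rw [← Nat.card_coe_set_eq] at h1
    have h3 : Nat.card (A : Set S) = Nat.card A := rfl
    omega

theorem quasidihedral_rank {S : Type*} [Group S] [Finite S] (h : IsQuasiDihedral S) : PRankLE 2 2 S := by
  obtain ⟨m, x, y, -, hd⟩ := H25.QD.exists_data h
  intro A hA hA2
  have hcomm : ∀ a ∈ A, ∀ b ∈ A, a * b = b * a := H28.Rank.mulComm_iff.mp hA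
  have hsq : ∀ a ∈ A, a * a = 1 := fun a ha => by rw [← pow_two]; exact hA2 a ha
  set e := x ^ ((4 : ℤ) * 2 ^ m) with he
  have hxcase : ∀ i : ℤ, x ^ i ∈ A → x ^ i = 1 ∨ x ^ i = e := by
    intro i hi
    have h1 := (H25.QD.sq_x_iff hd i).mp (hsq _ hi)
    obtain ⟨c, rfl⟩ := h1
    by_cases hc : (2 : ℤ) ∣ c
    · left; exact (H25.QD.zpow_4T_iff hd c).mpr hc
    · right; exact H25.QD.zpow_4T_odd hd hc
  by_cases hAU : ∀ a ∈ A, ∃ i : ℤ, a = x ^ i
  · have hsub : (A : Set S) ⊆ {1, e} := by
      intro a ha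
      obtain ⟨i, rfl⟩ := hAU a ha
      rcases hxcase i ha with h1 | h1 <;> rw [h1] <;> simp
    have h1 := Set.ncard_le_ncard hsub (Set.toFinite _)
    have h2 : ({1, e} : Set S).ncard ≤ 2 := by
      refine (Set.ncard_insert_le _ _).trans ?_
      rw [Set.ncard_singleton]
    rw [← Nat.card_coe_set_eq] at h1
    have h3 : Nat.card (A : Set S) = Nat.card A := rfl
    omega
  · push Not at hAU
    obtain ⟨g, hgA, hgU⟩ := hAU
    obtain ⟨i, rfl⟩ : ∃ i : ℤ, g = x ^ i * y := by
      rcases H25.QD.cases hd g with ⟨i, rfl⟩ | h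
      · exact absurd rfl (hgU i)
      · exact h
    set g := x ^ i * y with hg
    have hsub : (A : Set S) ⊆ {1, e, g, g * e} := by
      intro a ha
      rcases H25.QD.cases hd a with ⟨k, rfl⟩ | ⟨k, rfl⟩
      · rcases hxcase k ha with h1 | h1 <;> rw [h1] <;> simp
      · have h1 := A.mul_mem hgA ha
        have h2 : x ^ k * y = g * (g * (x ^ k * y)) := by rw [← mul_assoc, hsq g hgA, one_mul]
        have h4 := h1
        rw [hg, H25.QD.mul_yy hd] at h4
        rcases hxcase _ h4 with h3 | h3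
        · rw [← H25.QD.mul_yy hd, ← hg] at h3
          rw [h2, h3]; simp
        · rw [← H25.QD.mul_yy hd, ← hg] at h3
          rw [h2, h3]; simp
    have h1 := Set.ncard_le_ncard hsub (Set.toFinite _)
    have h2 : ({1, e, g, g * e} : Set S).ncard ≤ 4 := by
      refine (Set.ncard_insert_le _ _).trans ?_
      have := (Set.ncard_insert_le e ({g, g * e} : Set S))
      have h3 := (Set.ncard_insert_le g ({g * e} : Set S))
      rw [Set.ncard_singleton] at h3
      omega
    rw [← Nat.card_coe_set_eq] at h1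
    have h3 : Nat.card (A : Set S) = Nat.card A := rfl
    omega

/-- `O(X) Z(S)` is normal in a group of `2`-rank at most two with an isolated involution. -/
theorem normal_core_sup (hZst : H26.ZStarUse.ZStarHyp.{u}) {X : Type u} [Group X] [Finite X]
    (S : Sylow 2 X) (hr : PRankLE 2 2 (S : Subgroup X)) {z : X} (hzS : z ∈ S)
    (hz : IsIsolatedInvolution z) :
    (oddCore X ⊔ (Subgroup.center (S : Subgroup X)).map (S : Subgroup X).subtype).Normal := by
  have hi := isoIn S hr hzS hz
  set Z := (Subgroup.center (S : Subgroup X)).map (S : Subgroup X).subtype with hZ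
  have hZS : Z ≤ S := Subgroup.map_subtype_le _
  have h1 := H26.ZStarUse.isoIn_core hZst S hZS hi
  have hchar : (pPrimeCore 2 X).Characteristic := H1.Cores.pPrimeCore_characteristic 2
  have hn : (oddCore X).Normal := inferInstanceAs (pPrimeCore 2 X).Normal
  refine ⟨fun n hn' x => ?_⟩
  obtain ⟨o, ho, c, hc, rfl⟩ := Subgroup.mem_sup_of_normal_left.mp hn'
  have h2 : x * (o * c) * x⁻¹ = (x * o * x⁻¹ * (x * c * x⁻¹ * c⁻¹)) * c := by group
  rw [h2]
  exact Subgroup.mul_mem_sup ((oddCore X).mul_mem (hn.conj_mem o ho x) (h1 c hc x)) hc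

end H26.RankTwoIso
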